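import Groth.Agent.Sga4h.H582.ASCov

/-!
# The Artin–Schreier covering `z ^ q - z = x_0 + ⋯ + x_m` of the affine space is connected
-/

set_option autoImplicit false
universe u

open CategoryTheory CategoryTheory.Limits AlgebraicGeometry Opposite

namespace Groth.Agent.Sga4h.H961.ASConn

open Groth.Agent.Sga4h.H582

variable (k : Type u) [CommRing k] (m q : ℕ)

/-- the ring of the affine space -/
abbrev RR : Type u := MvPolynomial (Fin (m + 1)) k

/-- `x_0 + ⋯ + x_m` -/
noncomputable abbrev g : RR k m := ∑ i : Fin (m + 1), MvPolynomial.X i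

/-- `x_m ↦ z ^ q - z - x_0 - ⋯ - x_(m-1)` -/
noncomputable def fwdBase : RR k m →+* RR k m :=
  MvPolynomial.eval₂Hom MvPolynomial.C (Fin.lastCases (motive := fun _ => RR k m)
    (MvPolynomial.X (Fin.last m) ^ q - MvPolynomial.X (Fin.last m) -
      ∑ i : Fin m, MvPolynomial.X (Fin.castSucc i))
    (fun i => MvPolynomial.X (Fin.castSucc i)))

theorem fwdBase_castSucc (i : Fin m) : fwdBase k m q (MvPolynomial.X (Fin.castSucc i)) =
    MvPolynomial.X (Fin.castSucc i) := by
  rw [fwdBase, MvPolynomial.coe_eval₂Hom, MvPolynomial.eval₂_X, Fin.lastCases_castSucc]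

theorem fwdBase_last : fwdBase k m q (MvPolynomial.X (Fin.last m)) =
    MvPolynomial.X (Fin.last m) ^ q - MvPolynomial.X (Fin.last m) -
      ∑ i : Fin m, MvPolynomial.X (Fin.castSucc i) := by
  rw [fwdBase, MvPolynomial.coe_eval₂Hom, MvPolynomial.eval₂_X, Fin.lastCases_last]

theorem fwdBase_C (a : k) : fwdBase k m q (MvPolynomial.C a) = MvPolynomial.C a := by
  rw [fwdBase, MvPolynomial.coe_eval₂Hom, MvPolynomial.eval₂_C]

theorem fwdBase_g : MvPolynomial.X (Fin.last m) ^ q - MvPolynomial.X (Fin.last m) = fwdBase k m q (g k m) := by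
  rw [g, Fin.sum_univ_castSucc, map_add, map_sum, fwdBase_last]
  have h : ∀ i : Fin m, fwdBase k m q (MvPolynomial.X (Fin.castSucc i)) = MvPolynomial.X (Fin.castSucc i) :=
    fwdBase_castSucc k m q
  simp only [h]
  ring

/-- the map to the affine space -/
noncomputable def fwd : LangSh.ASAlg (RR k m) q (g k m) →+* RR k m :=
  ASCov.lift q (g k m) (fwdBase k m q) (MvPolynomial.X (Fin.last m)) (fwdBase_g k m q)

/-- the inverse -/
noncomputable def bwd : RR k m →+* LangSh.ASAlg (RR k m) q (g k m) :=
  MvPolynomial.eval₂Hom ((algebraMap (RR k m) _).comp MvPolynomial.C)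
    (Fin.lastCases (motive := fun _ => LangSh.ASAlg (RR k m) q (g k m))
      (AdjoinRoot.root _) (fun i => algebraMap (RR k m) _ (MvPolynomial.X (Fin.castSucc i))))

theorem bwd_castSucc (i : Fin m) : bwd k m q (MvPolynomial.X (Fin.castSucc i)) =
    algebraMap (RR k m) _ (MvPolynomial.X (Fin.castSucc i)) := by
  rw [bwd, MvPolynomial.coe_eval₂Hom, MvPolynomial.eval₂_X, Fin.lastCases_castSucc]

theorem bwd_last : bwd k m q (MvPolynomial.X (Fin.last m)) = AdjoinRoot.root _ := by
  rw [bwd, MvPolynomial.coe_eval₂Hom, MvPolynomial.eval₂_X, Fin.lastCases_last]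

theorem bwd_C (a : k) : bwd k m q (MvPolynomial.C a) = algebraMap (RR k m) _ (MvPolynomial.C a) := by
  rw [bwd, MvPolynomial.coe_eval₂Hom, MvPolynomial.eval₂_C]
  rfl

theorem bwd_fwd : (bwd k m q).comp (fwd k m q) = RingHom.id _ := by
  apply ASCov.hom_ext
  · rw [RingHom.comp_assoc, fwd, ASCov.lift_comp]
    apply MvPolynomial.ringHom_ext
    · intro a
      rw [RingHom.comp_apply, fwdBase_C, bwd_C]
      rfl
    · intro i
      rw [RingHom.comp_apply, RingHom.comp_apply, RingHom.id_apply]
      refine Fin.lastCases ?_ (fun i => ?_) i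
      · rw [fwdBase_last, map_sub, map_sub, map_pow, bwd_last, map_sum (bwd k m q)]
        have h : ∀ i : Fin m, bwd k m q (MvPolynomial.X (Fin.castSucc i)) =
          algebraMap (RR k m) (LangSh.ASAlg (RR k m) q (g k m)) (MvPolynomial.X (Fin.castSucc i)) :=
            bwd_castSucc k m q
        have hg : algebraMap (RR k m) (LangSh.ASAlg (RR k m) q (g k m)) (g k m) =
            ∑ i : Fin m, algebraMap (RR k m) (LangSh.ASAlg (RR k m) q (g k m)) (MvPolynomial.X (Fin.castSucc i)) +
              algebraMap (RR k m) (LangSh.ASAlg (RR k m) q (g k m)) (MvPolynomial.X (Fin.last m)) := by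
          refine (congrArg (algebraMap (RR k m) (LangSh.ASAlg (RR k m) q (g k m)))
            (Fin.sum_univ_castSucc (fun i : Fin (m + 1) => (MvPolynomial.X i : RR k m)))).trans ?_
          rw [map_add, map_sum (algebraMap (RR k m) (LangSh.ASAlg (RR k m) q (g k m)))]
        have hr := ASCov.root_eq q (g k m)
        simp only [h]
        rw [hr, hg, add_sub_cancel_left]
      · rw [fwdBase_castSucc, bwd_castSucc]
  · rw [RingHom.comp_apply, fwd, ASCov.lift_root, bwd_last]
    rfl

theorem fwd_injective : Function.Injective (fwd k m q) := by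
  intro a b h
  have h1 := congrArg (bwd k m q) h
  have h2 : ∀ x, bwd k m q (fwd k m q x) = x := fun x => DFunLike.congr_fun (bwd_fwd k m q) x
  rwa [h2, h2] at h1

theorem isDomain [IsDomain k] : IsDomain (LangSh.ASAlg (RR k m) q (g k m)) :=
  (fwd_injective k m q).isDomain _

/-- **The covering is connected.** -/
theorem connectedSpace [IsDomain k] :
    ConnectedSpace (Spec (CommRingCat.of (LangSh.ASAlg (RR k m) q (g k m)))) := by
  have := isDomain k m q
  infer_instance

/-- The covering is connected, `n` variables. -/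
theorem connectedSpace' [IsDomain k] {n : ℕ} (hn : 1 ≤ n) :
    ConnectedSpace (Spec (CommRingCat.of (LangSh.ASAlg (MvPolynomial (Fin n) k) q
      (∑ i : Fin n, MvPolynomial.X i)))) := by
  obtain ⟨m, rfl⟩ : ∃ m, n = m + 1 := ⟨n - 1, by omega⟩
  exact connectedSpace k m q

end Groth.Agent.Sga4h.H961.ASConn
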