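import Groth.Agent.Sga4h.H582.TrConst
import Groth.Agent.Sga4h.H299.LamMod
import Groth.Agent.Sga4h.H961.ASConn
import Mathlib.RingTheory.TensorProduct.MvPolynomial

/-!
# A constant Artin–Schreier sheaf on the affine space has a trivial character

`L` on `Spec k[x_0, …, x_(n-1)]` with trace function `ψ(Tr(x_0 + ⋯ + x_(n-1)))`, `n ≥ 1`, isomorphic to the
constant sheaf: `ψ = 1`.
-/

set_option autoImplicit false
universe u
open CategoryTheory CategoryTheory.Limits AlgebraicGeometry Opposite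

noncomputable section

namespace Groth.Agent.Sga4h.H961.ASOne

open Groth.Agent.Sga4h.H917 Groth.Agent.Sga4h.H582 Groth.Agent.Sga4h.H299 LamMod Scal
open Groth.Agent.Etrest.ModAb

section Geom

variable (k K : Type u) [Field k] [Field K] [Algebra k K] (n : ℕ)

/-- `A^n_K ⟶ A^n_k` -/
abbrev bcn : Spec (CommRingCat.of (MvPolynomial (Fin n) K)) ⟶ Spec (CommRingCat.of (MvPolynomial (Fin n) k)) :=
  Spec.map (CommRingCat.ofHom (MvPolynomial.map (algebraMap k K) :
    MvPolynomial (Fin n) k →+* MvPolynomial (Fin n) K))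

attribute [local instance] MvPolynomial.algebraMvPolynomial

/-- `A^n_K = A^n_k ×_k K` -/
theorem isPullback : IsPullback (bcn k K n)
    (Spec.map (CommRingCat.ofHom (algebraMap K (MvPolynomial (Fin n) K))))
    (Spec.map (CommRingCat.ofHom (algebraMap k (MvPolynomial (Fin n) k)))) (FinFr.specι k K) := by
  have h := isPullback_SpecMap_of_isPushout _ _ _ _
    (CommRingCat.isPushout_of_isPushout k K (MvPolynomial (Fin n) k) (MvPolynomial (Fin n) K))
  exact h.flip

end Geom

section const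

variable {Λ : Type} [Field Λ] {X Y : Scheme.{u}}

theorem isConst_pull (t : Y ⟶ X) (L : EtLam.Sheaf Λ X) (h : Desc.IsConst L) :
    Desc.IsConst (EtLam.pullback t L) := by
  obtain ⟨a, ha⟩ := h
  refine ⟨(EtCoh.pull t).mapIso a ≪≫ EtCore.pullConst t Λ, fun r => ?_⟩
  have h1 : (EtCoh.pull t).map (L.act r) ≫ (EtCoh.pull t).map a.hom =
      (EtCoh.pull t).map a.hom ≫ (EtCoh.pull t).map (FinFr.constSMul X r) := by
    rw [← Functor.map_comp, ← Functor.map_comp, ha]
  have h2 : (EtCoh.pull t).map (FinFr.constSMul X r) ≫ (EtCore.pullConst t Λ).hom =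
      (EtCore.pullConst t Λ).hom ≫ FinFr.constSMul Y r :=
    (EtCore.pullConstIso t).hom.naturality _
  change (EtCoh.pull t).map (L.act r) ≫ (EtCoh.pull t).map a.hom ≫ (EtCore.pullConst t Λ).hom = _
  rw [← Category.assoc, h1, Category.assoc, h2, Iso.trans_hom, Category.assoc]
  rfl

/-- From modules to sheaves with action. -/
theorem isConst_of_toMod (L : EtLam.Sheaf Λ X)
    (h : Nonempty (toMod L ≅ EtModW.constMod (UL.{u} Λ) X (UL.{u} Λ))) : Desc.IsConst L := by
  obtain ⟨e⟩ := h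
  let e' : toMod L ≅ toMod (FinFr.constLam Λ X) := e ≪≫ toModConst X
  refine ⟨(abToMod L).symm ≪≫ (ab (UL.{u} Λ) X).mapIso e' ≪≫ abToMod (FinFr.constLam Λ X), fun r => ?_⟩
  have h1 := abScal_toMod L (ULift.up r)
  have h2 := abScal_toMod (FinFr.constLam Λ X) (ULift.up r)
  have h3 : abScal (ULift.up r) (toMod L) ≫ (ab (UL.{u} Λ) X).map e'.hom =
      (ab (UL.{u} Λ) X).map e'.hom ≫ abScal (ULift.up r) (toMod (FinFr.constLam Λ X)) := by
    rw [← Functor.map_comp, ← Functor.map_comp]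
    exact congrArg (ab (UL.{u} Λ) X).map (scal_naturality (ULift.up r) e'.hom)
  have h4 : (abToMod L).inv ≫ abScal (ULift.up r) (toMod L) = L.act r ≫ (abToMod L).inv := by
    rw [Iso.inv_comp_eq, ← Category.assoc, Iso.eq_comp_inv]
    exact h1
  simp only [Iso.trans_hom, Iso.symm_hom, Functor.mapIso_hom]
  rw [← Category.assoc, ← h4, Category.assoc, ← Category.assoc (abScal (ULift.up r) (toMod L)), h3, Category.assoc]
  refine (congrArg (fun z => (abToMod L).inv ≫ (ab (UL.{u} Λ) X).map e'.hom ≫ z) h2).trans ?_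
  simp only [Category.assoc]
  rfl

end const

variable {k K : Type u} [Field k] [Fintype k] [Field K] [Algebra k K] [Algebra.IsAlgebraic k K]
  [Fact FinFr.PullExact.{u}] {Λ : Type} [Field Λ]

/-- The point `x_0 = b`, the other coordinates `0`. -/
def pb (E : Type u) [Field E] [Algebra k E] (m : ℕ) (b : E) : MvPolynomial (Fin (m + 1)) k →ₐ[k] E :=
  MvPolynomial.aeval (Fin.cases (motive := fun _ => E) b (fun _ => 0))

omit [Fintype k] [Fact FinFr.PullExact.{u}] in
theorem pb_sum (E : Type u) [Field E] [Algebra k E] (m : ℕ) (b : E) :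
    pb (k := k) E m b (∑ i : Fin (m + 1), MvPolynomial.X i) = b := by
  rw [map_sum, Fin.sum_univ_succ]
  have h1 : pb (k := k) E m b (MvPolynomial.X 0) = b := by
    rw [pb, MvPolynomial.aeval_X, Fin.cases_zero]
  have h2 : ∀ i : Fin m, pb (k := k) E m b (MvPolynomial.X i.succ) = 0 := fun i => by
    rw [pb, MvPolynomial.aeval_X, Fin.cases_succ]
  rw [h1, Finset.sum_eq_zero fun i _ => h2 i, add_zero]

/-- If `L` on `Spec k[x_0, …, x_m]` has trace function `ψ(Tr Σ x_i)` and is constant on `Spec K[x_0, …, x_m]`,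
then `ψ = 1`. -/
theorem eq_one_of_isConst {m : ℕ} (ψ : AddChar k Λ)
    (L : EtLam.Sheaf Λ (Spec (CommRingCat.of (MvPolynomial (Fin (m + 1)) k))))
    (hL : LangSh.HasTraceFun k K L (fun E x => ψ (Algebra.trace k E
      (x (∑ i : Fin (m + 1), MvPolynomial.X i : MvPolynomial (Fin (m + 1)) k)))))
    (hc : Desc.IsConst (EtLam.pullback (bcn k K (m + 1)) L)) : ψ = 1 := by
  let E : IntermediateField k K := ⊥
  have hfin : Fintype E :=
    Fintype.ofEquiv k (IntermediateField.botEquiv k K).symm.toEquiv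
  have halg : Algebra.IsAlgebraic E K := Algebra.IsAlgebraic.tower_top (K := k) E
  have hcon : ConnectedSpace (Spec (CommRingCat.of (MvPolynomial (Fin (m + 1)) K))) := by
    have : IsDomain (MvPolynomial (Fin (m + 1)) K) := inferInstance
    infer_instance
  let x : k → (MvPolynomial (Fin (m + 1)) k →ₐ[k] E) := fun b => pb E m (algebraMap k E b)
  have hx : ∀ b, LangSh.pt (x b) ≫ Spec.map (CommRingCat.ofHom (algebraMap k (MvPolynomial (Fin (m + 1)) k))) =
      Spec.map (CommRingCat.ofHom (algebraMap k E)) := by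
    intro b
    rw [LangSh.pt, ← Spec.map_comp, ← CommRingCat.ofHom_comp]
    congr 2
    exact (x b).comp_algebraMap
  have h1 : ∀ b, FinFr.locTrace (K := K) (LangSh.pt (x b)) L = ψ b := by
    intro b
    refine (hL E (x b)).trans ?_
    have h2 : x b (∑ i : Fin (m + 1), MvPolynomial.X i) = algebraMap k E b := pb_sum E m _
    beta_reduce
    rw [h2, Algebra.trace_algebraMap, IntermediateField.finrank_bot, one_smul]
  ext b
  rw [← h1 b, TrConst.locTrace_const (isPullback k K (m + 1)) L hc E (LangSh.pt (x b)) (LangSh.pt (x 0))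
    (hx b) (hx 0), h1 0, AddChar.map_zero_eq_one]
  rfl

/-- **A constant Artin–Schreier sheaf has `ψ = 1`.** -/
theorem eq_one {n : ℕ} (hn : 1 ≤ n) (ψ : AddChar k Λ)
    (L : EtLam.Sheaf Λ (Spec (CommRingCat.of (MvPolynomial (Fin n) k))))
    (hL : LangSh.IsASSheaf K ψ (∑ i : Fin n, MvPolynomial.X i : MvPolynomial (Fin n) k) L)
    (h : Nonempty (toMod L ≅ EtModW.constMod (UL.{u} Λ) _ (UL.{u} Λ))) : ψ = 1 := by
  obtain ⟨m, rfl⟩ : ∃ m, n = m + 1 := ⟨n - 1, by omega⟩
  exact eq_one_of_isConst ψ L hL.2 (isConst_pull _ L (isConst_of_toMod L h))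

/-- The same if `L` becomes constant over `K`. -/
theorem eq_one_K {n : ℕ} (hn : 1 ≤ n) (ψ : AddChar k Λ)
    (L : EtLam.Sheaf Λ (Spec (CommRingCat.of (MvPolynomial (Fin n) k))))
    (hL : LangSh.IsASSheaf K ψ (∑ i : Fin n, MvPolynomial.X i : MvPolynomial (Fin n) k) L)
    (h : Nonempty (toMod (EtLam.pullback (bcn k K n) L) ≅ EtModW.constMod (UL.{u} Λ) _ (UL.{u} Λ))) : ψ = 1 := by
  obtain ⟨m, rfl⟩ : ∃ m, n = m + 1 := ⟨n - 1, by omega⟩
  exact eq_one_of_isConst ψ L hL.2 (isConst_of_toMod _ h)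

end Groth.Agent.Sga4h.H961.ASOne
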