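import Groth.Agent.Sga4h.H961.NNRR
import Groth.Agent.Sga4h.H299.LamMod

/-!
# The Artin–Schreier sheaf over `K`: summand of the iterated sheaves, no sections

The Artin–Schreier sheaf `L` on `A^n_k` is given in the form `L ≅ F_θ(x_1 + ⋯ + x_n)` with `θ ≠ 1`.
-/

set_option autoImplicit false
universe u

open CategoryTheory CategoryTheory.Limits AlgebraicGeometry Opposite Polynomial

namespace Groth.Agent.Sga4h.H961.Final

open Groth.Agent.Sga4h.H918 Gen Tw Ask Lang
open Groth.Agent.Sga4h.H961 SumStep FCalc LineSect JacZero Summand NNRR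
open Groth.Agent.Sga4h.H299.LamMod
open Groth.Agent.Etrest.ModAb

variable {k K : Type u} [Field k] [Fintype k] [Field K] [Algebra k K] {Λ : Type} [Field Λ]

variable (k K) in
/-- `A^n_K ⟶ A^n_k` -/
noncomputable abbrev bcn (n : ℕ) : Spec (CommRingCat.of (MvPolynomial (Fin n) K)) ⟶
    Spec (CommRingCat.of (MvPolynomial (Fin n) k)) :=
  Spec.map (CommRingCat.ofHom (MvPolynomial.map (algebraMap k K) :
    MvPolynomial (Fin n) k →+* MvPolynomial (Fin n) K))

theorem coprime [Finite Λ] (hΛ : (ringChar Λ : k) ≠ 0) : (Fintype.card k).Coprime (ringChar Λ) := by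
  have hch : CharP Λ (ringChar Λ) := ringChar.charP Λ
  have hℓ : (ringChar Λ).Prime := by
    rcases CharP.char_is_prime_or_zero Λ (ringChar Λ) with h | h
    · exact h
    · exfalso
      rw [h] at hch
      have := CharP.charP_to_charZero Λ
      exact (Infinite.of_injective (Nat.cast : ℕ → Λ) Nat.cast_injective).not_finite inferInstance
  rw [Nat.coprime_comm, hℓ.coprime_iff_not_dvd]
  intro hdvd
  obtain ⟨p, hpc⟩ := CharP.exists k
  have hpp : p.Prime := CharP.char_is_prime k p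
  obtain ⟨n, -, hn⟩ := FiniteField.card k p
  rw [hn] at hdvd
  have h1 := (Nat.prime_dvd_prime_iff_eq hℓ hpp).1 (hℓ.dvd_of_dvd_pow hdvd)
  exact hΛ (by rw [h1]; exact CharP.cast_eq_zero k p)

theorem cond_of_ne_one {θ : Multiplicative k →* (ULift.{u + 1} Λ)ˣ} (hθ : θ ≠ 1) :
    ∃ c : Multiplicative k, ∀ r : ULift.{u + 1} Λ,
      r * ((θ.comp (MonoidHom.fst (Multiplicative k) kˣ)) (c, 1) : ULift.{u + 1} Λ) = r → r = 0 := by
  obtain ⟨c, hc⟩ : ∃ c, θ c ≠ 1 := by
    by_contra h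
    push_neg at h
    exact hθ (MonoidHom.ext h)
  refine ⟨c, fun r hr => ?_⟩
  have h1 : r.down * ((θ c : ULift.{u + 1} Λ).down - 1) = 0 := by
    have h2 : r.down * (θ c : ULift.{u + 1} Λ).down = r.down := congrArg ULift.down hr
    rw [mul_sub, mul_one, h2, sub_self]
  rcases mul_eq_zero.1 h1 with h2 | h2
  · exact ULift.down_injective h2
  · exact absurd (Units.ext (ULift.down_injective (sub_eq_zero.1 h2))) hc

variable {n : ℕ} (L : EtLam.Sheaf Λ (Spec (CommRingCat.of (MvPolynomial (Fin n) k))))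
  {θ : Multiplicative k →* (ULift.{u + 1} Λ)ˣ}

/-- The sheaf over `K`. -/
theorem nonempty_K (e : Nonempty (toMod L ≅ FS (Λ := Λ) (algebraMap k (MvPolynomial (Fin n) k))
      (θ.comp (MonoidHom.fst (Multiplicative k) kˣ)) (∑ i : Fin n, MvPolynomial.X i))) :
    Nonempty ((EtLam.pullback (bcn k K n) L).carrier ≅ (ab (ULift.{u + 1} Λ) _).obj
      (FS (Λ := Λ) ((MvPolynomial.C : K →+* MvPolynomial (Fin n) K).comp (algebraMap k K))
        (θ.comp (MonoidHom.fst (Multiplicative k) kˣ)) (∑ i : Fin n, MvPolynomial.X i))) := by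
  obtain ⟨e⟩ := e
  obtain ⟨e1⟩ := pull_FS (Λ := Λ) (MvPolynomial.map (algebraMap k K) :
      MvPolynomial (Fin n) k →+* MvPolynomial (Fin n) K) (algebraMap k (MvPolynomial (Fin n) k))
    ((MvPolynomial.C : K →+* MvPolynomial (Fin n) K).comp (algebraMap k K))
    (RingHom.ext fun c => MvPolynomial.map_C _ _) (θ.comp (MonoidHom.fst (Multiplicative k) kˣ))
    (∑ i : Fin n, MvPolynomial.X i) (∑ i : Fin n, MvPolynomial.X i) (by
      rw [map_sum]
      exact Finset.sum_congr rfl fun i _ => MvPolynomial.map_X _ _)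
  exact ⟨(EtCoh.pull (bcn k K n)).mapIso (abToMod L).symm ≪≫
    ((pullIso (ULift.{u + 1} Λ) (bcn k K n)).app (toMod L)).symm ≪≫
    (ab _ _).mapIso ((EtModW.pull (ULift.{u + 1} Λ) (bcn k K n)).mapIso e ≪≫ e1)⟩

variable [IsAlgClosed K]

/-- **`L_K` is a direct summand of `N_{x_0} ⋯ N_{x_(n-1)} (Λ)`.** -/
theorem summand_L [Finite Λ] (hΛ : (ringChar Λ : k) ≠ 0) (hθ : θ ≠ 1)
    (e : Nonempty (toMod L ≅ FS (Λ := Λ) (algebraMap k (MvPolynomial (Fin n) k))
      (θ.comp (MonoidHom.fst (Multiplicative k) kˣ)) (∑ i : Fin n, MvPolynomial.X i))) :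
    Summand (EtLam.pullback (bcn k K n) L).carrier (NN K (Fintype.card k) Λ n) := by
  obtain ⟨e1⟩ := nonempty_K (K := K) L e
  have hch : CharP Λ (ringChar Λ) := ringChar.charP Λ
  exact (Summand.of_iso e1).trans (summand_NN (algebraMap k K) (fun d => map_one θ) (cond_of_ne_one hθ)
    (CharP.cast_eq_zero Λ (ringChar Λ)) (coprime hΛ) n)

/-- **`L_K` is a direct summand of `N_{x_(n-1)} ⋯ N_{x_0} (Λ)`.** -/
theorem summand_L_RR [Finite Λ] (hΛ : (ringChar Λ : k) ≠ 0) (hθ : θ ≠ 1)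
    (e : Nonempty (toMod L ≅ FS (Λ := Λ) (algebraMap k (MvPolynomial (Fin n) k))
      (θ.comp (MonoidHom.fst (Multiplicative k) kˣ)) (∑ i : Fin n, MvPolynomial.X i))) :
    Summand (EtLam.pullback (bcn k K n) L).carrier (RR.RR (Fintype.card k) K Λ n) := by
  obtain ⟨e1⟩ := nonempty_K (K := K) L e
  have hch : CharP Λ (ringChar Λ) := ringChar.charP Λ
  exact (Summand.of_iso e1).trans (summand_FS (algebraMap k K) (fun d => map_one θ) (cond_of_ne_one hθ)
    (CharP.cast_eq_zero Λ (ringChar Λ)) (coprime hΛ) n)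

/-- **`L_K` has no sections.** -/
theorem sect_L (hn : 1 ≤ n) (hθ : θ ≠ 1)
    (e : Nonempty (toMod L ≅ FS (Λ := Λ) (algebraMap k (MvPolynomial (Fin n) k))
      (θ.comp (MonoidHom.fst (Multiplicative k) kˣ)) (∑ i : Fin n, MvPolynomial.X i)))
    (s : EtCoh.sect (EtLam.pullback (bcn k K n) L).carrier (EtCoh.top _)) : s = 0 := by
  obtain ⟨e1⟩ := nonempty_K (K := K) L e
  refine sect_eq_zero_of_hom _ (fun f => ?_) s
  have h0 : ∀ t : EtCoh.sect ((ab (ULift.{u + 1} Λ) _).obj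
      (FS (Λ := Λ) ((MvPolynomial.C : K →+* MvPolynomial (Fin n) K).comp (algebraMap k K))
        (θ.comp (MonoidHom.fst (Multiplicative k) kˣ)) (∑ i : Fin n, MvPolynomial.X i))) (EtCoh.top _), t = 0 :=
    fun t => sect_FS (algebraMap k K) (cond_of_ne_one hθ) hn t
  have h1 : f ≫ e1.hom = 0 := H917.ConstOn.hom_const_eq_zero ℤ _ h0 _
  rw [← cancel_mono e1.hom, h1, Limits.zero_comp]

end Groth.Agent.Sga4h.H961.Final
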