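import Groth.Agent.Sga4h.H929.NSplit

/-!
# A sheaf which becomes isomorphic to `p^* B` after pull-back is a direct summand of `N_p B`

`p` finite étale of degree prime to `n`, `A`, `B` killed by `n`, `p^* A ≅ p^* B`, `Hom(B, A) = 0`:
then `A` is a direct summand of `N_p B = coker (B ⟶ p_* p^* B)`.
-/

set_option autoImplicit false
universe u

open CategoryTheory CategoryTheory.Limits AlgebraicGeometry Opposite

namespace Groth.Agent.Sga4h.H961.SumStep

open Groth.Agent.Sga4h.H929 NDef CokFun NSplit EtCoh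

/-- `A` is a direct summand of `B`. -/
def Summand {C : Type*} [Category C] (A B : C) : Prop :=
  ∃ (s : A ⟶ B) (r : B ⟶ A), s ≫ r = 𝟙 A

namespace Summand

variable {C D : Type*} [Category C] [Category D]

theorem refl (A : C) : Summand A A := ⟨𝟙 A, 𝟙 A, Category.comp_id _⟩

theorem of_iso {A B : C} (e : A ≅ B) : Summand A B := ⟨e.hom, e.inv, e.hom_inv_id⟩

theorem trans {A B E : C} (h : Summand A B) (h' : Summand B E) : Summand A E := by
  obtain ⟨s, r, e⟩ := h
  obtain ⟨s', r', e'⟩ := h'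
  refine ⟨s ≫ s', r' ≫ r, ?_⟩
  rw [Category.assoc, reassoc_of% e', e]

theorem map {A B : C} (h : Summand A B) (Φ : C ⥤ D) : Summand (Φ.obj A) (Φ.obj B) := by
  obtain ⟨s, r, e⟩ := h
  exact ⟨Φ.map s, Φ.map r, by rw [← Φ.map_comp, e, Φ.map_id]⟩

theorem isZero [HasZeroMorphisms C] {A B : C} (h : Summand A B) (hB : IsZero B) : IsZero A := by
  obtain ⟨s, r, e⟩ := h
  rw [IsZero.iff_id_eq_zero, ← e, hB.eq_of_tgt s 0, zero_comp]

end Summand

theorem cat_step {C : Type*} [Category C] [Preadditive C] {A B Q E : C} (i : A ⟶ Q) (π : Q ⟶ A)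
    (hi : i ≫ π = 𝟙 A) (η : B ⟶ Q) (r : Q ⟶ B) (g : Q ⟶ E) (s : E ⟶ Q) (hid : r ≫ η + g ≫ s = 𝟙 Q)
    (h1 : η ≫ π = 0) : (i ≫ g) ≫ s ≫ π = 𝟙 A := by
  have h2 : i ≫ (r ≫ η + g ≫ s) ≫ π = 𝟙 A := by rw [hid, Category.id_comp, hi]
  rw [Preadditive.add_comp, Preadditive.comp_add, Category.assoc, h1, comp_zero, comp_zero, zero_add,
    Category.assoc] at h2
  rw [Category.assoc, h2]

variable {X Y : Scheme.{u}} {p : Y ⟶ X} {d : ℕ}

/-- The summand statement. -/
theorem summand_N (h : FE p d) {n : ℕ} (hdn : d.Coprime n) {A B : Ab X} (hA : KilledBy n A)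
    (hB : KilledBy n B) (e : (pull p).obj A ≅ (pull p).obj B) (h0 : ∀ u : B ⟶ A, u = 0) :
    Summand A ((N p).obj B) := by
  obtain ⟨rA, hrA⟩ := h.exists_retract hdn hA
  obtain ⟨σ⟩ := h.nonempty_splitting hdn hB
  -- the maps `A ⟶ p_* p^* B ⟶ A`
  have hi : ((pullPushAdj p).unit.app A ≫ (push p).map e.hom) ≫ (push p).map e.inv ≫ rA = 𝟙 A := by
    rw [Category.assoc, ← Functor.map_comp_assoc, e.hom_inv_id, CategoryTheory.Functor.map_id,
      Category.id_comp]
    exact hrA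
  exact ⟨_, _, cat_step _ _ hi ((pullPushAdj p).unit.app B) σ.r ((Nπ p).app B) σ.s σ.id (h0 _)⟩

end Groth.Agent.Sga4h.H961.SumStep
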