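import Groth.Agent.Sga4h.H929.NDef

/-!
# The iterated sheaves `N_{x_n} ⋯ N_{x_1} (Λ)` on affine space

`RR q K M n` on `Spec K[x_0, …, x_(n-1)]`: `RR 0` is the constant sheaf `M`, and
`RR (n+1) = N_{x_n} (pr^* (RR n))`.
-/

set_option autoImplicit false
universe u

open CategoryTheory CategoryTheory.Limits AlgebraicGeometry Opposite

namespace Groth.Agent.Sga4h.H961.RR

open Groth.Agent.Sga4h.H929 NDef

/-- `𝔸ⁿ⁺¹ ⟶ 𝔸ⁿ`, forgetting the last coordinate. -/
noncomputable abbrev prn (K : Type u) [CommRing K] (n : ℕ) :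
    Spec (CommRingCat.of (MvPolynomial (Fin (n + 1)) K)) ⟶ Spec (CommRingCat.of (MvPolynomial (Fin n) K)) :=
  Spec.map (CommRingCat.ofHom
    (MvPolynomial.rename (Fin.castSucc : Fin n → Fin (n + 1)) :
      MvPolynomial (Fin n) K →ₐ[K] MvPolynomial (Fin (n + 1)) K).toRingHom)

/-- `N_{x_n} ⋯ N_{x_1} (M)`. -/
noncomputable def RR (q : ℕ) (K : Type u) [CommRing K] (M : Type) [AddCommGroup M] :
    (n : ℕ) → EtCoh.Ab (Spec (CommRingCat.of (MvPolynomial (Fin n) K)))
  | 0 => EtCoh.const _ M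
  | n + 1 => (asN q (MvPolynomial.X (Fin.last n) : MvPolynomial (Fin (n + 1)) K)).obj
      ((EtCoh.pull (prn K n)).obj (RR q K M n))

theorem RR_zero (q : ℕ) (K : Type u) [CommRing K] (M : Type) [AddCommGroup M] :
    RR q K M 0 = EtCoh.const _ M := rfl

theorem RR_succ (q : ℕ) (K : Type u) [CommRing K] (M : Type) [AddCommGroup M] (n : ℕ) :
    RR q K M (n + 1) = (asN q (MvPolynomial.X (Fin.last n) : MvPolynomial (Fin (n + 1)) K)).obj
      ((EtCoh.pull (prn K n)).obj (RR q K M n)) := rfl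

end Groth.Agent.Sga4h.H961.RR
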