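import Groth.Agent.Sga4h.H918.Lang

/-!
# The sheaves `F_θ(f, u)`: translation of `f` by `z ^ q - z`

* `shiftF`: `F_θ(f + (z ^ q - z), u) ≅ F_θ(f, u)`;
* `pull_shiftF`: if `x = z ^ q - z` on `Y` then the pull-backs to `Y` of `F_θ(f + x, u)` and `F_θ(f, u)` are
  isomorphic.
-/

set_option autoImplicit false

universe u

open CategoryTheory CategoryTheory.Limits AlgebraicGeometry Polynomial Opposite

namespace Groth.Agent.Sga4h.H961.FCalc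

open Groth.Agent.Etbase Groth.Agent.Etcore Groth.Agent.EtpbcA Groth.Agent.Etcore.LVan
open Groth.Agent.Sga4h.H918 Gen Tw Ask Lang

variable {k : Type*} [Field k] [Fintype k] {Λ : Type (u + 1)} [CommRing Λ]
variable {X : Scheme.{u}} {ρ : k →+* Γ(X, ⊤)} {f u : Γ(X, ⊤)}

/-- `F_θ(f + (z ^ q - z), u) ≅ F_θ(f, u)`. -/
theorem shiftF (ρ : k →+* Γ(X, ⊤)) (θ : GG k →* Λˣ) (f f' z u : Γ(X, ⊤)) (hu : IsUnit u)
    (hf : f' = f + (z ^ Fintype.card k - z)) : Nonempty (F ρ θ f' u hu ≅ F ρ θ f u hu) := by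
  let T := tor ρ f u hu
  let T' := tor ρ f' u hu
  obtain ⟨π, h1, h2⟩ := T.exists_hom T'.T (T'.z - fb T'.T z) T'.y
    (by
      rw [FrobFix.sub_pow_card (Tor.cst ρ T'.T)]
      have h1 := T'.eq_z
      have h2 : fb T'.T f' = fb T'.T f + (fb T'.T z ^ Fintype.card k - fb T'.T z) := by
        rw [← map_pow, ← map_sub, ← map_add]
        exact congrArg _ hf
      linear_combination h1 + h2)
    T'.eq_y
  have hπ : ∀ g, T'.act g ≫ π = π ≫ T.act g := by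
    intro g
    apply T.hom_ext
    · rw [pb_comp, pb_comp, h1, T.act_z, map_sub, map_add, h1, Tor.pb_cst, pb_fb, T'.act_z]
      ring
    · rw [pb_comp, pb_comp, h2, T.act_y, map_mul, h2, Tor.pb_cst, T'.act_y]
  obtain ⟨e⟩ := nonempty_iso_F T' θ (L := F ρ θ f u hu) ((hasGen_F T θ).res π id hπ)
  exact ⟨e.symm⟩

/-- `F_θ(f, u)` only depends on `ρ`, `f` and `u`. -/
theorem congrF {ρ ρ' : k →+* Γ(X, ⊤)} (θ : GG k →* Λˣ) {f f' u u' : Γ(X, ⊤)} (hu : IsUnit u) (hu' : IsUnit u')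
    (e1 : ρ = ρ') (e2 : f = f') (e3 : u = u') : Nonempty (F ρ θ f u hu ≅ F ρ' θ f' u' hu') := by
  subst e1 e2 e3
  exact ⟨Iso.refl _⟩

/-- If `x = z ^ q - z` on `Y` then `F_θ(f + x, u)` and `F_θ(f, u)` are isomorphic on `Y`. -/
theorem pull_shiftF {Y : Scheme.{u}} (p : Y ⟶ X) (ρ : k →+* Γ(X, ⊤)) (θ : GG k →* Λˣ)
    (f x u : Γ(X, ⊤)) (hu : IsUnit u) (z : Γ(Y, ⊤)) (hz : z ^ Fintype.card k - z = p.appTop.hom x) :
    Nonempty ((EtModW.pull Λ p).obj (F ρ θ (f + x) u hu) ≅ (EtModW.pull Λ p).obj (F ρ θ f u hu)) := by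
  obtain ⟨e1⟩ := pullF (Λ := Λ) p (ρ := ρ) (f := f + x) (u := u) θ hu
  obtain ⟨e2⟩ := pullF (Λ := Λ) p (ρ := ρ) (f := f) (u := u) θ hu
  obtain ⟨e3⟩ := shiftF (Λ := Λ) (p.appTop.hom.comp ρ) θ (p.appTop.hom f) (p.appTop.hom (f + x)) z
    (p.appTop.hom u) (hu.map _) (by rw [hz, map_add])
  exact ⟨e1 ≪≫ e3 ≪≫ e2.symm⟩

end Groth.Agent.Sga4h.H961.FCalc
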