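import Groth.Agent.EtpbcB.SurjFaithful
import Groth.Agent.EtpbcB.GeomPt
import Mathlib.RingTheory.Nullstellensatz

/-!
# A morphism of abelian étale sheaves on affine space which vanishes on a line through every closed point

* `eq_zero_of_veryDense`: a morphism vanishes if the stalk maps vanish over a very dense set of points;
* `eq_zero_of_points`: `K` algebraically closed, a morphism of sheaves on `𝔸ⁿ_K` vanishes if for every
  `a ∈ Kⁿ` its pull-back along some `f : Y ⟶ 𝔸ⁿ` with `a` in the image of `f` vanishes.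
-/

set_option autoImplicit false
universe u

open CategoryTheory CategoryTheory.Limits AlgebraicGeometry Opposite

namespace Groth.Agent.Sga4h.H961.JacZero

open Groth.Agent.EtpbcB.GeomPt Groth.Agent.Etcore.Stalks

variable {X : Scheme.{u}}

/-- The morphism `h` vanishes if its stalks over a very dense set of points vanish. -/
theorem eq_zero_of_veryDense {T : Set X} (hT : VeryDense T) {B A : EtCoh.Ab X} (h : B ⟶ A)
    (hz : ∀ x ∈ T, ∃ (Ω : Type u) (_ : Field Ω) (_ : IsSepClosed Ω)
      (ξ : Spec (CommRingCat.of Ω) ⟶ X), ξ default = x ∧ (EtCoh.stalk ξ).map h = 0) : h = 0 := by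
  have h1 : IsZero (image h) := by
    refine isZero_of_veryDense hT _ fun x hx => ?_
    obtain ⟨Ω, i1, i2, ξ, hξ, h0⟩ := hz x hx
    rw [← hξ, ← isZero_stalk_iff ξ]
    have h2 : (EtCoh.stalk ξ).map (factorThruImage h) ≫ (EtCoh.stalk ξ).map (image.ι h) = 0 := by
      rw [← Functor.map_comp, image.fac, h0]
    have h3 : (EtCoh.stalk ξ).map (image.ι h) = 0 := by
      rw [← cancel_epi ((EtCoh.stalk ξ).map (factorThruImage h)), h2, comp_zero]
    rw [IsZero.iff_id_eq_zero, ← cancel_mono ((EtCoh.stalk ξ).map (image.ι h)), h3, comp_zero, comp_zero]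
  rw [← image.fac h, h1.eq_of_tgt (factorThruImage h) 0, zero_comp]

/-- Vanishing of the stalk map over `f y`, from vanishing of `f⁻¹ h`. -/
theorem stalk_map_eq_zero {Y : Scheme.{u}} (f : Y ⟶ X) {B A : EtCoh.Ab X} (h : B ⟶ A)
    (hf : (EtCoh.pull f).map h = 0) {Ω : Type u} [Field Ω] [IsSepClosed Ω]
    (ξ : Spec (CommRingCat.of Ω) ⟶ Y) : (EtCoh.stalk (ξ ≫ f)).map h = 0 := by
  let e := Groth.Agent.Etbase.StalkPull.stalkPullIso f ξ
  have h1 := e.hom.naturality h
  rw [Functor.comp_map, hf, Functor.map_zero, comp_zero] at h1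
  rw [← cancel_mono (e.hom.app A), h1, zero_comp]

section Affine

variable {K : Type u} [Field K] [IsAlgClosed K] {n : ℕ}

/-- The closed points of `𝔸ⁿ_K`. -/
theorem exists_point (x : Spec (CommRingCat.of (MvPolynomial (Fin n) K)))
    (hx : IsClosed ({x} : Set (Spec (CommRingCat.of (MvPolynomial (Fin n) K))))) :
    ∃ a : Fin n → K, Spec.map (CommRingCat.ofHom (MvPolynomial.aeval a).toRingHom) default = x := by
  have hm : (PrimeSpectrum.asIdeal x).IsMaximal := (PrimeSpectrum.isClosed_singleton_iff_isMaximal x).1 hx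
  obtain ⟨a, ha⟩ := (MvPolynomial.isMaximal_iff_eq_vanishingIdeal_singleton).1 hm
  refine ⟨a, PrimeSpectrum.ext ?_⟩
  refine Eq.trans ?_ ha.symm
  ext p
  rw [MvPolynomial.mem_vanishingIdeal_singleton_iff]
  have h0 : (default : Spec (CommRingCat.of K)) = (⟨⊥, Ideal.isPrime_bot⟩ : PrimeSpectrum K) :=
    Subsingleton.elim (α := PrimeSpectrum K) _ _
  rw [h0]
  exact Iff.rfl

/-- Vanishing of a morphism on `𝔸ⁿ_K`. -/
theorem eq_zero_of_points {B A : EtCoh.Ab (Spec (CommRingCat.of (MvPolynomial (Fin n) K)))} (h : B ⟶ A)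
    (hz : ∀ a : Fin n → K, ∃ (Y : Scheme.{u}) (f : Y ⟶ Spec (CommRingCat.of (MvPolynomial (Fin n) K)))
      (ξ : Spec (CommRingCat.of K) ⟶ Y),
      ξ ≫ f = Spec.map (CommRingCat.ofHom (MvPolynomial.aeval a).toRingHom) ∧
      (EtCoh.pull f).map h = 0) : h = 0 := by
  have : JacobsonSpace (Spec (CommRingCat.of (MvPolynomial (Fin n) K))) := by
    have : IsJacobsonRing (MvPolynomial (Fin n) K) := inferInstance
    exact inferInstanceAs (JacobsonSpace (PrimeSpectrum (MvPolynomial (Fin n) K)))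
  refine eq_zero_of_veryDense veryDense_closedPoints h fun x hx => ?_
  obtain ⟨a, ha⟩ := exists_point x hx
  obtain ⟨Y, f, ξ, hξ, hf⟩ := hz a
  exact ⟨K, inferInstance, inferInstance, ξ ≫ f, by rw [hξ, ha], stalk_map_eq_zero f h hf ξ⟩

end Affine

end Groth.Agent.Sga4h.H961.JacZero
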