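import Groth.Agent.Sga4h.H961.NoSect
import Groth.Agent.Sga4h.H582.ASCov

/-!
# The sheaf `F_θ(X, 1)` on the affine line has no global sections

`K` a field over the finite field `k`, `θ` a character of `k × k^*` with values in a field, nontrivial on `k`.
-/

set_option autoImplicit false

universe u

open CategoryTheory CategoryTheory.Limits AlgebraicGeometry Opposite Polynomial

namespace Groth.Agent.Sga4h.H961.LineSect

open Groth.Agent.Etbase Groth.Agent.Etcore Groth.Agent.EtpbcA Groth.Agent.Etcore.LVan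
open Groth.Agent.Sga4h.H918 Gen Tw Ask Lang
open Groth.Agent.Sga4h.H582.ASCov

/-- `R →+* Γ(Spec R)`. -/
noncomputable abbrev gl (R : Type u) [CommRing R] : R →+* Γ(Spec (CommRingCat.of R), ⊤) :=
  (Scheme.ΓSpecIso (CommRingCat.of R)).inv.hom

theorem appTop_gl {R S : Type u} [CommRing R] [CommRing S] (φ : R →+* S) (r : R) :
    (Spec.map (CommRingCat.ofHom φ)).appTop.hom (gl R r) = gl S (φ r) := by
  have h := Scheme.ΓSpecIso_inv_naturality (CommRingCat.ofHom φ)
  exact (congrArg (fun q => q.hom r) h).symm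

section Line

variable {k : Type*} [Field k] [Fintype k] {K : Type u} [Field K] (ρ : k →+* K)

theorem cast_card (ρ : k →+* K) : ((Fintype.card k : ℕ) : K) = 0 := by
  rw [← map_natCast ρ, FiniteField.cast_card_eq_zero, map_zero]

theorem pow_card_map (c : k) : (ρ c) ^ Fintype.card k = ρ c := by
  rw [← map_pow, FiniteField.pow_card]

variable (k K) in
/-- `K[X] → K[Z]`, `X ↦ Z ^ q - Z` -/
noncomputable abbrev lb : K[X] →+* K[X] := eval₂RingHom C (X ^ Fintype.card k - X)

theorem lb_C (x : K) : lb k K (C x) = C x := by simp [lb]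

theorem lb_X : lb k K X = X ^ Fintype.card k - X := by simp [lb]

/-- `Z ↦ Z + c` -/
noncomputable abbrev tr (c : k) : K[X] →+* K[X] := eval₂RingHom C (X + C (ρ c))

theorem tr_C (c : k) (x : K) : tr ρ c (C x) = C x := by simp [tr]

theorem tr_X (c : k) : tr ρ c X = X + C (ρ c) := by simp [tr]

theorem tr_lb (c : k) : (tr ρ c).comp (lb k K) = lb k K := by
  apply Polynomial.ringHom_ext
  · intro x
    rw [RingHom.comp_apply, lb_C, tr_C]
  · rw [RingHom.comp_apply, lb_X, map_sub, map_pow, tr_X,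
      FrobFix.add_pow_card ((C : K →+* K[X]).comp ρ), ← map_pow, pow_card_map]
    ring

theorem etale_lb (ρ : k →+* K) : Etale (Spec.map (CommRingCat.ofHom (lb k K))) := by
  have h1 := isIso_line (Fintype.card k) (0 : K) (one_ne_zero : (1 : K) ≠ 0)
  have h2 := etale_cov (Fintype.card k) (lin (1 : K) 0) Fintype.one_lt_card
    (by rw [← map_natCast (C : K →+* K[X]), cast_card ρ, C_0])
  have h3 : line (Fintype.card k) (0 : K) (one_ne_zero : (1 : K) ≠ 0) ≫ cov (Fintype.card k) (lin (1 : K) 0) =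
      Spec.map (CommRingCat.ofHom (lb k K)) := by
    rw [line, cov, LangSh.cover, ← Spec.map_comp, ← CommRingCat.ofHom_comp]
    congr 2
    change (Groth.Agent.Sga4h.H582.ASCov.lift _ _ _ _ _).comp _ = _
    rw [lift_comp]
    apply Polynomial.ringHom_ext
    · intro x
      rw [lineBase_C, lb_C]
    · rw [lineBase_X, lb_X]
      simp
  rw [← h3]
  infer_instance

theorem surjective_lb (ρ : k →+* K) : Surjective (Spec.map (CommRingCat.ofHom (lb k K))) := by
  have h1 := isIso_line (Fintype.card k) (0 : K) (one_ne_zero : (1 : K) ≠ 0)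
  have h2 := surjective_cov (Fintype.card k) (lin (1 : K) 0) Fintype.one_lt_card
  have h3 : line (Fintype.card k) (0 : K) (one_ne_zero : (1 : K) ≠ 0) ≫ cov (Fintype.card k) (lin (1 : K) 0) =
      Spec.map (CommRingCat.ofHom (lb k K)) := by
    rw [line, cov, LangSh.cover, ← Spec.map_comp, ← CommRingCat.ofHom_comp]
    congr 2
    change (Groth.Agent.Sga4h.H582.ASCov.lift _ _ _ _ _).comp _ = _
    rw [lift_comp]
    apply Polynomial.ringHom_ext
    · intro x
      rw [lineBase_C, lb_C]
    · rw [lineBase_X, lb_X]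
      simp
  rw [← h3]
  infer_instance

/-- The line over the line. -/
noncomputable def TT (ρ : k →+* K) : (Spec (CommRingCat.of K[X])).Etale :=
  haveI := etale_lb ρ
  Scheme.Etale.mk (Spec.map (CommRingCat.ofHom (lb k K)))

/-- The translations. -/
noncomputable def act (c : k) : TT ρ ⟶ TT ρ :=
  MorphismProperty.Over.homMk (Spec.map (CommRingCat.ofHom (tr ρ c))) (by
    change Spec.map _ ≫ Spec.map _ = Spec.map _
    rw [← Spec.map_comp, ← CommRingCat.ofHom_comp, tr_lb])

instance : ConnectedSpace (TT ρ).left := by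
  have h1 : IsDomain K[X] := inferInstance
  exact inferInstanceAs (ConnectedSpace (Spec (CommRingCat.of K[X])))

/-- The scalars. -/
noncomputable abbrev sc {R : Type u} [CommRing R] (ρ : k →+* R) : k →+* Γ(Spec (CommRingCat.of R), ⊤) :=
  (gl R).comp ρ

variable {Λ : Type (u + 1)} [CommRing Λ]

/-- No sections. -/
theorem sect_eq_zero (θ : GG k →* Λˣ) (hθ : ∃ c : Multiplicative k, ∀ r : Λ, r * (θ (c, 1) : Λ) = r → r = 0)
    (t : EtModW.sect Λ (F (sc ((C : K →+* K[X]).comp ρ)) θ (gl K[X] X) 1 isUnit_one) (EtCoh.top _)) :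
    t = 0 := by
  obtain ⟨c, hc⟩ := hθ
  let ρ' := sc ((C : K →+* K[X]).comp ρ)
  let T' := tor ρ' (gl K[X] X) 1 isUnit_one
  let T : (Spec (CommRingCat.of K[X])).Etale := TT ρ
  let z : Γ(T.left, ⊤) := gl K[X] X
  have hfb : ∀ r : K[X], fb T (gl K[X] r) = gl K[X] (lb k K r) := fun r => appTop_gl (lb k K) r
  have hpb : ∀ (d : k) (r : K[X]), pb (act ρ d) (gl K[X] r) = gl K[X] (tr ρ d r) := fun d r => appTop_gl (tr ρ d) r
  obtain ⟨a, ha1, ha2⟩ := T'.exists_hom T z 1 (by
    rw [hfb, lb_X, map_sub, map_pow]; rfl) (by rw [one_pow, map_one])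
  have ha : ∀ d : k, act ρ d ≫ a = a ≫ T'.act (Multiplicative.ofAdd d, 1) := by
    intro d
    apply T'.hom_ext
    · rw [pb_comp, pb_comp, ha1, T'.act_z, map_add, ha1, Tor.pb_cst]
      have h1 : pb (act ρ d) z = gl K[X] (X + C (ρ d)) := by
        rw [← tr_X]
        exact hpb d X
      rw [h1, map_add]
      congr 1
      have h2 := hfb (C (ρ d))
      rw [lb_C] at h2
      exact h2.symm
    · rw [pb_comp, pb_comp, ha2, T'.act_y, map_mul, ha2, Tor.pb_cst, map_one]
      change 1 = Tor.cst ρ' T (1 : k) * 1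
      rw [map_one, mul_one]
  obtain ⟨s, hs, hs2⟩ := hasGen_F T' θ
  refine NoSect.eq_zero_of_act (T := T) (fun x => ?_) (hs.res a) (act ρ (Multiplicative.toAdd c))
    (θ (c, 1) : Λ) hc ?_ t
  · have := surjective_lb ρ
    exact (Spec.map (CommRingCat.ofHom (lb k K))).surjective x
  · rw [← LVan.res_comp, ha, LVan.res_comp]
    have h1 := hs2 (c, 1)
    exact (congrArg (LVan.res _ a) h1).trans (map_smul _ _ _)

end Line

end Groth.Agent.Sga4h.H961.LineSect
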