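import Groth.Agent.Sga4h.H961.SumStep
import Groth.Agent.Sga4h.H961.RR
import Groth.Agent.Sga4h.H961.JacZero
import Groth.Agent.Sga4h.H961.FCalc
import Groth.Agent.Sga4h.H961.LineSect
import Groth.Agent.Sga4h.H929.ASC
import Groth.Agent.Sga4h.H917.ConstOn
import Groth.Agent.Etrest.ModAb

/-!
# `F_θ(x_1 + ⋯ + x_n)` is a direct summand of `N_{x_n} ⋯ N_{x_1} (Λ)`

`K` algebraically closed over the finite field `k` with `q` elements, `Λ` a field of characteristic prime to `q`,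
`θ` a character of `k × k^*` trivial on `k^*` and nontrivial on `k`.
-/

set_option autoImplicit false

universe u

open CategoryTheory CategoryTheory.Limits AlgebraicGeometry Opposite Polynomial

namespace Groth.Agent.Sga4h.H961.Summand

open Groth.Agent.Sga4h.H918 Gen Tw Ask Lang
open Groth.Agent.Sga4h.H929 NDef NSplit ASC
open Groth.Agent.Sga4h.H961 SumStep FCalc LineSect JacZero
open Groth.Agent.Etrest.ModAb

theorem killedBy_ab {Λ : Type (u + 1)} [CommRing Λ] {X : Scheme.{u}} {n : ℕ} (hn : (n : Λ) = 0)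
    (G : EtModW.Mod Λ X) : EtCoh.KilledBy n ((ab Λ X).obj G) := by
  intro U s
  have h : ∀ s : EtModW.sect Λ G U, n • s = 0 := fun s => by
    rw [← Nat.cast_smul_eq_nsmul Λ, hn, zero_smul]
  exact h s

theorem abIso {Λ : Type (u + 1)} [CommRing Λ] {X : Scheme.{u}} {G G' : EtModW.Mod Λ X}
    (e : Nonempty (G ≅ G')) : Nonempty ((ab Λ X).obj G ≅ (ab Λ X).obj G') :=
  e.map fun e => (ab Λ X).mapIso e

variable {k : Type*} [Field k] [Fintype k] {K : Type u} [Field K] (ρ : k →+* K)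
  {Λ : Type} [Field Λ]

/-- `F_θ(g, 1)` on `Spec R`. -/
noncomputable abbrev FS {R : Type u} [CommRing R] (ρ : k →+* R) (θ : GG k →* (ULift.{u + 1} Λ)ˣ) (g : R) :
    EtModW.Mod (ULift.{u + 1} Λ) (Spec (CommRingCat.of R)) :=
  F (sc ρ) θ (gl R g) 1 isUnit_one

/-- Base change. -/
theorem pull_FS {R S : Type u} [CommRing R] [CommRing S] (φ : R →+* S) (ρ : k →+* R) (ρ' : k →+* S)
    (hρ : φ.comp ρ = ρ') (θ : GG k →* (ULift.{u + 1} Λ)ˣ) (g : R) (g' : S) (hg : φ g = g') :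
    Nonempty ((EtModW.pull (ULift.{u + 1} Λ) (Spec.map (CommRingCat.ofHom φ))).obj (FS ρ θ g) ≅
      FS ρ' θ g') := by
  obtain ⟨e1⟩ := pullF (Λ := ULift.{u + 1} Λ) (Spec.map (CommRingCat.ofHom φ)) (ρ := sc ρ) (f := gl R g)
    (u := 1) θ isUnit_one
  obtain ⟨e2⟩ := congrF (Λ := ULift.{u + 1} Λ) (ρ := (Spec.map (CommRingCat.ofHom φ)).appTop.hom.comp (sc ρ))
    (ρ' := sc ρ') θ (f := (Spec.map (CommRingCat.ofHom φ)).appTop.hom (gl R g)) (f' := gl S g')
    (u := (Spec.map (CommRingCat.ofHom φ)).appTop.hom 1) (u' := 1) (isUnit_one.map _) isUnit_one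
    (by
      ext c
      have h1 := appTop_gl φ (ρ c)
      refine h1.trans ?_
      rw [← hρ]
      rfl)
    (by rw [← hg]; exact appTop_gl φ g) (map_one _)
  exact ⟨e1 ≪≫ e2⟩

/-- `F_θ(g + (w ^ q - w)) ≅ F_θ(g)`. -/
theorem shift_FS {R : Type u} [CommRing R] (ρ : k →+* R) (θ : GG k →* (ULift.{u + 1} Λ)ˣ) (g g' w : R)
    (hg : g' = g + (w ^ Fintype.card k - w)) : Nonempty (FS ρ θ g' ≅ FS ρ θ g) :=
  shiftF (Λ := ULift.{u + 1} Λ) (sc ρ) θ (gl R g) (gl R g') (gl R w) 1 isUnit_one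
    (by rw [hg, map_add, map_sub, map_pow])

/-- `F_θ(0) ≅ Λ` for `θ` trivial on `k^*`. -/
theorem zero_FS {R : Type u} [CommRing R] (ρ : k →+* R) (θ : GG k →* (ULift.{u + 1} Λ)ˣ)
    (hθ : ∀ d : kˣ, θ (1, d) = 1) : Nonempty ((ab _ _).obj (FS ρ θ 0) ≅ EtCoh.const _ Λ) := by
  obtain ⟨e1⟩ := trivF_left (Λ := ULift.{u + 1} Λ) (ρ := sc ρ) θ hθ isUnit_one
  obtain ⟨e2⟩ := congrF (Λ := ULift.{u + 1} Λ) θ (ρ := sc ρ) (ρ' := sc ρ) (f := gl R 0) (f' := 0) (u := 1)
    (u' := 1) isUnit_one isUnit_one rfl (map_zero _) rfl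
  exact ⟨(ab _ _).mapIso (e2 ≪≫ e1) ≪≫
    (constIso (ULift.{u + 1} Λ) (Spec (CommRingCat.of R))).app (ModuleCat.of _ (ULift.{u + 1} Λ))⟩

section Line

variable [IsAlgClosed K] {θ : GG k →* (ULift.{u + 1} Λ)ˣ}

theorem exists_root (c : K) : ∃ w : K, w ^ Fintype.card k - w = c := by
  have h1 : (X ^ Fintype.card k - X - C c : K[X]).degree ≠ 0 := by
    have h2 := monic_PA (k := k) c
    intro h0
    have h3 : (X ^ Fintype.card k - X - C c : K[X]).natDegree = 0 := natDegree_eq_of_degree_eq_some h0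
    exact natDegree_PA (k := k) c h3
  obtain ⟨w, hw⟩ := IsAlgClosed.exists_root _ h1
  refine ⟨w, ?_⟩
  rw [IsRoot.def, eval_sub, eval_sub, eval_pow, eval_X, eval_C] at hw
  exact sub_eq_zero.1 hw

/-- Morphisms from a constant `F_θ(c)` to `F_θ(X + c)` on the line vanish. -/
theorem line_hom_eq_zero (hθ : ∀ d : kˣ, θ (1, d) = 1)
    (hθ' : ∃ c : Multiplicative k, ∀ r : ULift.{u + 1} Λ, r * (θ (c, 1) : ULift.{u + 1} Λ) = r → r = 0) (c : K)
    (h : (ab _ _).obj (FS ((C : K →+* K[X]).comp ρ) θ (C c)) ⟶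
      (ab _ _).obj (FS ((C : K →+* K[X]).comp ρ) θ (C c + X))) : h = 0 := by
  obtain ⟨w, hw⟩ := exists_root (k := k) c
  obtain ⟨e1⟩ := shift_FS (Λ := Λ) ((C : K →+* K[X]).comp ρ) θ 0 (C c) (C w)
    (by rw [zero_add, ← map_pow, ← map_sub, hw])
  obtain ⟨e2⟩ := zero_FS (Λ := Λ) ((C : K →+* K[X]).comp ρ) θ hθ
  obtain ⟨e3⟩ := shift_FS (Λ := Λ) ((C : K →+* K[X]).comp ρ) θ X (C c + X) (C w)
    (by rw [← map_pow, ← map_sub, hw, add_comm])
  have h0 : ∀ s : EtCoh.sect ((ab (ULift.{u + 1} Λ) _).obj (FS ((C : K →+* K[X]).comp ρ) θ X))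
      (EtCoh.top (Spec (CommRingCat.of K[X]))), s = 0 := fun s => sect_eq_zero (Λ := ULift.{u + 1} Λ) ρ θ hθ' s
  have h1 : (e2.inv ≫ (ab _ _).map e1.inv) ≫ h ≫ (ab _ _).map e3.hom = 0 :=
    H917.ConstOn.hom_const_eq_zero Λ _ h0 _
  rw [← cancel_epi (e2.inv ≫ (ab _ _).map e1.inv), ← cancel_mono ((ab _ _).map e3.hom), Category.assoc, h1,
    Limits.comp_zero, Limits.zero_comp]

/-- The same after pull-back from a scheme. -/
theorem pull_hom_eq_zero (hθ : ∀ d : kˣ, θ (1, d) = 1)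
    (hθ' : ∃ c : Multiplicative k, ∀ r : ULift.{u + 1} Λ, r * (θ (c, 1) : ULift.{u + 1} Λ) = r → r = 0)
    {R : Type u} [CommRing R] (ρ' : k →+* R) (φ : R →+* K[X]) (hρ : φ.comp ρ' = (C : K →+* K[X]).comp ρ)
    (g g' : R) (c : K) (hg : φ g = C c) (hg' : φ g' = C c + X)
    (h : (ab (ULift.{u + 1} Λ) _).obj (FS ρ' θ g) ⟶ (ab (ULift.{u + 1} Λ) _).obj (FS ρ' θ g')) :
    (EtCoh.pull (Spec.map (CommRingCat.ofHom φ))).map h = 0 := by
  obtain ⟨e1⟩ := pull_FS (Λ := Λ) φ ρ' ((C : K →+* K[X]).comp ρ) hρ θ g (C c) hg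
  obtain ⟨e2⟩ := pull_FS (Λ := Λ) φ ρ' ((C : K →+* K[X]).comp ρ) hρ θ g' (C c + X) hg'
  let i1 := (pullIso (ULift.{u + 1} Λ) (Spec.map (CommRingCat.ofHom φ))).app (FS ρ' θ g)
  let i2 := (pullIso (ULift.{u + 1} Λ) (Spec.map (CommRingCat.ofHom φ))).app (FS ρ' θ g')
  have h1 := line_hom_eq_zero (Λ := Λ) ρ hθ hθ' c (((ab _ _).map e1.inv ≫ i1.hom) ≫
    (EtCoh.pull (Spec.map (CommRingCat.ofHom φ))).map h ≫ (i2.inv ≫ (ab _ _).map e2.hom))
  rw [← cancel_epi ((ab _ _).map e1.inv ≫ i1.hom), ← cancel_mono (i2.inv ≫ (ab _ _).map e2.hom),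
    Category.assoc, h1, Limits.comp_zero, Limits.zero_comp]

end Line

section Affine

variable [IsAlgClosed K] {θ : GG k →* (ULift.{u + 1} Λ)ˣ}

/-- The line in the direction of the last coordinate. -/
noncomputable def lineMap {n : ℕ} (a : Fin n → K) : MvPolynomial (Fin (n + 1)) K →ₐ[K] K[X] :=
  MvPolynomial.aeval (Fin.lastCases (motive := fun _ => K[X]) X (fun i => C (a i)))

omit [IsAlgClosed K] in
theorem lineMap_castSucc {n : ℕ} (a : Fin n → K) (i : Fin n) :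
    lineMap a (MvPolynomial.X (Fin.castSucc i)) = C (a i) := by
  rw [lineMap, MvPolynomial.aeval_X, Fin.lastCases_castSucc]

omit [IsAlgClosed K] in
theorem lineMap_last {n : ℕ} (a : Fin n → K) :
    lineMap a (MvPolynomial.X (Fin.last n)) = X := by
  rw [lineMap, MvPolynomial.aeval_X, Fin.lastCases_last]

/-- Vanishing of all morphisms `F_θ(f) ⟶ F_θ(f + x)` on affine space. -/
theorem hom_eq_zero (hθ : ∀ d : kˣ, θ (1, d) = 1)
    (hθ' : ∃ c : Multiplicative k, ∀ r : ULift.{u + 1} Λ, r * (θ (c, 1) : ULift.{u + 1} Λ) = r → r = 0)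
    (n : ℕ)
    (h : (ab (ULift.{u + 1} Λ) _).obj (FS ((MvPolynomial.C : K →+* MvPolynomial (Fin (n + 1)) K).comp ρ) θ
        (∑ i : Fin n, MvPolynomial.X (Fin.castSucc i))) ⟶
      (ab (ULift.{u + 1} Λ) _).obj (FS ((MvPolynomial.C : K →+* MvPolynomial (Fin (n + 1)) K).comp ρ) θ
        (∑ i : Fin n, MvPolynomial.X (Fin.castSucc i) + MvPolynomial.X (Fin.last n)))) : h = 0 := by
  refine eq_zero_of_points h fun a => ⟨_,
    Spec.map (CommRingCat.ofHom (lineMap (fun i : Fin n => a (Fin.castSucc i))).toRingHom),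
    Spec.map (CommRingCat.ofHom (evalRingHom (a (Fin.last n)))), ?_, ?_⟩
  · rw [← Spec.map_comp, ← CommRingCat.ofHom_comp]
    congr 2
    apply MvPolynomial.ringHom_ext
    · intro x
      rw [RingHom.comp_apply]
      have h1 : (lineMap (fun i : Fin n => a (Fin.castSucc i))).toRingHom (MvPolynomial.C x) = C x :=
        (lineMap (fun i : Fin n => a (Fin.castSucc i))).commutes x
      rw [h1]
      exact (eval_C).trans ((MvPolynomial.aeval a).commutes x).symm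
    · intro i
      rw [RingHom.comp_apply]
      refine Fin.lastCases ?_ (fun i => ?_) i
      · have h1 := lineMap_last (fun i : Fin n => a (Fin.castSucc i))
        refine (congrArg _ h1).trans ?_
        exact (eval_X).trans (MvPolynomial.aeval_X a _).symm
      · have h1 := lineMap_castSucc (fun i : Fin n => a (Fin.castSucc i)) i
        refine (congrArg _ h1).trans ?_
        exact (eval_C).trans (MvPolynomial.aeval_X a _).symm
  · refine pull_hom_eq_zero ρ hθ hθ' _ _ ?_ _ _ (∑ i : Fin n, a (Fin.castSucc i)) ?_ ?_ h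
    · exact RingHom.ext fun c => (lineMap (fun i : Fin n => a (Fin.castSucc i))).commutes (ρ c)
    · change lineMap _ _ = _
      rw [map_sum, map_sum]
      exact Finset.sum_congr rfl fun i _ => lineMap_castSucc _ i
    · change lineMap _ _ = _
      rw [map_add, map_sum, map_sum, lineMap_last]
      congr 1
      exact Finset.sum_congr rfl fun i _ => lineMap_castSucc _ i

/-- `F_θ(f + x)` is a direct summand of `N_x (F_θ(f))`. -/
theorem summand_step (hθ : ∀ d : kˣ, θ (1, d) = 1)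
    (hθ' : ∃ c : Multiplicative k, ∀ r : ULift.{u + 1} Λ, r * (θ (c, 1) : ULift.{u + 1} Λ) = r → r = 0)
    {N : ℕ} (hN : (N : Λ) = 0) (hqN : (Fintype.card k).Coprime N) (n : ℕ) :
    Summand ((ab (ULift.{u + 1} Λ) _).obj (FS ((MvPolynomial.C : K →+* MvPolynomial (Fin (n + 1)) K).comp ρ) θ
        (∑ i : Fin n, MvPolynomial.X (Fin.castSucc i) + MvPolynomial.X (Fin.last n))))
      ((asN (Fintype.card k) (MvPolynomial.X (Fin.last n) : MvPolynomial (Fin (n + 1)) K)).obj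
        ((ab (ULift.{u + 1} Λ) _).obj (FS ((MvPolynomial.C : K →+* MvPolynomial (Fin (n + 1)) K).comp ρ) θ
          (∑ i : Fin n, MvPolynomial.X (Fin.castSucc i))))) := by
  have hq : 2 ≤ Fintype.card k := Fintype.one_lt_card
  have hqR : ((Fintype.card k : ℕ) : MvPolynomial (Fin (n + 1)) K) = 0 :=
    cast_card_eq_zero ((MvPolynomial.C : K →+* MvPolynomial (Fin (n + 1)) K).comp ρ)
  have hN' : (N : ULift.{u + 1} Λ) = 0 := by
    apply ULift.down_injective
    exact hN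
  let x : MvPolynomial (Fin (n + 1)) K := MvPolynomial.X (Fin.last n)
  let al := algebraMap (MvPolynomial (Fin (n + 1)) K) (LangSh.ASAlg _ (Fintype.card k) x)
  obtain ⟨e1⟩ := pull_FS (Λ := Λ) al ((MvPolynomial.C : K →+* MvPolynomial (Fin (n + 1)) K).comp ρ) _ rfl θ
    (∑ i : Fin n, MvPolynomial.X (Fin.castSucc i) + x) _ rfl
  obtain ⟨e2⟩ := pull_FS (Λ := Λ) al ((MvPolynomial.C : K →+* MvPolynomial (Fin (n + 1)) K).comp ρ) _ rfl θ
    (∑ i : Fin n, MvPolynomial.X (Fin.castSucc i)) _ rfl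
  obtain ⟨e3⟩ := shift_FS (Λ := Λ) (al.comp ((MvPolynomial.C : K →+* MvPolynomial (Fin (n + 1)) K).comp ρ)) θ
    (al (∑ i : Fin n, MvPolynomial.X (Fin.castSucc i)))
    (al (∑ i : Fin n, MvPolynomial.X (Fin.castSucc i) + x)) (AdjoinRoot.root _)
    (by rw [H582.ASCov.root_eq, map_add])
  exact summand_N (fe_asc x hq hqR) hqN (killedBy_ab hN' _) (killedBy_ab hN' _)
    ((pullIso (ULift.{u + 1} Λ) (asc (Fintype.card k) x)).symm.app _ ≪≫
      (ab _ _).mapIso (e1 ≪≫ e3 ≪≫ e2.symm) ≪≫ (pullIso (ULift.{u + 1} Λ) (asc (Fintype.card k) x)).app _)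
    (fun u => hom_eq_zero ρ hθ hθ' n u)

/-- **`F_θ(x_1 + ⋯ + x_n)` is a direct summand of `N_{x_n} ⋯ N_{x_1} (Λ)`.** -/
theorem summand_FS (hθ : ∀ d : kˣ, θ (1, d) = 1)
    (hθ' : ∃ c : Multiplicative k, ∀ r : ULift.{u + 1} Λ, r * (θ (c, 1) : ULift.{u + 1} Λ) = r → r = 0)
    {N : ℕ} (hN : (N : Λ) = 0) (hqN : (Fintype.card k).Coprime N) (n : ℕ) :
    Summand ((ab (ULift.{u + 1} Λ) _).obj (FS ((MvPolynomial.C : K →+* MvPolynomial (Fin n) K).comp ρ) θ
        (∑ i : Fin n, MvPolynomial.X i))) (RR.RR (Fintype.card k) K Λ n) := by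
  induction n with
  | zero =>
    rw [Fin.sum_univ_zero]
    obtain ⟨e⟩ := zero_FS (Λ := Λ) ((MvPolynomial.C : K →+* MvPolynomial (Fin 0) K).comp ρ) θ hθ
    exact Summand.of_iso e
  | succ n ih =>
    rw [Fin.sum_univ_castSucc]
    refine (summand_step ρ hθ hθ' hN hqN n).trans ?_
    rw [RR.RR_succ]
    refine Summand.map ?_ _
    obtain ⟨e⟩ := pull_FS (Λ := Λ) (MvPolynomial.rename (Fin.castSucc : Fin n → Fin (n + 1)) :
      MvPolynomial (Fin n) K →ₐ[K] MvPolynomial (Fin (n + 1)) K).toRingHom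
      ((MvPolynomial.C : K →+* MvPolynomial (Fin n) K).comp ρ)
      ((MvPolynomial.C : K →+* MvPolynomial (Fin (n + 1)) K).comp ρ) (RingHom.ext fun c =>
        (MvPolynomial.rename (Fin.castSucc : Fin n → Fin (n + 1)) :
          MvPolynomial (Fin n) K →ₐ[K] MvPolynomial (Fin (n + 1)) K).commutes (ρ c)) θ (∑ i : Fin n, MvPolynomial.X i)
      (∑ i : Fin n, MvPolynomial.X (Fin.castSucc i)) (by
        change MvPolynomial.rename _ _ = _
        rw [map_sum]
        exact Finset.sum_congr rfl fun i _ => MvPolynomial.rename_X _ _)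
    refine Summand.trans (Summand.of_iso ?_) (Summand.map ih (EtCoh.pull (RR.prn K n)))
    exact (ab _ _).mapIso e.symm ≪≫ (pullIso (ULift.{u + 1} Λ) (RR.prn K n)).app _

end Affine

end Groth.Agent.Sga4h.H961.Summand
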