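import Groth.Agent.Sga4h.H961.GmSq
import Groth.Agent.Sga4h.H479.EdgeH
import Groth.Agent.Sga4h.H182.NCons
import Groth.Agent.Sga4h.H929.Hyp
import Groth.Agent.Sga4h.H929.NPush
import Groth.Agent.Sga4h.H929.CommLib
import Groth.Agent.Sga4h.H929.StalkLib
import Groth.Agent.Sga4h.H929.ASC
import Groth.Agent.Sga4h.H929.F0Sch
import Groth.Agent.Sga4h.H137.HR
import Groth.Agent.Sga4B.PointConst
import Groth.Agent.Sga4B.HTools
import Groth.Agent.Sga4h.H917.GSec

/-!
# The fields `cons`, `killed`, `hG` of `WA N (TT q 1 (ι^* T))`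

`H^0(G_m, T^1) = H^1(G_m × G_m, N_y (px^* F)) = H^0(G_m, N_y (H^1(G_m, F))) = 0`.
-/

set_option autoImplicit false
universe u

open CategoryTheory CategoryTheory.Limits AlgebraicGeometry Opposite Polynomial
open scoped LaurentPolynomial

namespace Groth.Agent.Sga4h.H961.WAG

open EtCoh Groth.Agent.Sga4h.H929 NDef NSplit StalkLib CommLib Hyp
open Groth.Agent.Sga4h.H961.GmSq Groth.Agent.Sga4h.H582 Groth.Agent.Sga4h.H917.GSec
open LaurentPolynomial (T T_add T_zero isUnit_T)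
open Groth.Agent.Sga4B.HTools

section general

/-- `H^0` of `N_p` of a constant sheaf for a connected covering of degree prime to the torsion. -/
theorem subsingleton_H0_N {X Y : Scheme.{u}} {p : Y ⟶ X} {d : ℕ} (h : FE p d) {n : ℕ} (hdn : d.Coprime n)
    [ConnectedSpace X] [ConnectedSpace Y] (A : Type) [AddCommGroup A] [Finite A] (hA : ∀ a : A, n • a = 0) :
    Subsingleton (EtCoh.H X ((N p).obj (EtCoh.const X A)) 0) := by
  have hk : KilledBy n (EtCoh.const X A) := Groth.Agent.Etrest.ConstBasic.killedBy_const X A n hA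
  have h1 : Finite ((EtCore.gsec X).obj (EtCoh.const X A)) := by
    have h2 : Finite (ULift.{u + 1} A) := inferInstance
    exact Finite.of_equiv _ (Equiv.ofBijective _ (cst_bijective X A))
  have h3 : Nonempty ((EtCore.gsec X).obj ((push p).obj ((pull p).obj (EtCoh.const X A))) ≃
      (EtCore.gsec X).obj (EtCoh.const X A)) := by
    let e1 := ((EtCore.gsec X).mapIso ((push p).mapIso (EtCore.pullConst p A)))
    let e2 := (EtCore.pushGsecIso p).app (EtCoh.const Y A)
    let e3 : (EtCore.gsec X).obj ((push p).obj ((pull p).obj (EtCoh.const X A))) ≃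
        (EtCore.gsec Y).obj (EtCoh.const Y A) := ((forget AddCommGrpCat).mapIso (e1 ≪≫ e2)).toEquiv
    exact ⟨e3.trans ((Equiv.ofBijective _ (cst_bijective Y A)).symm.trans
      (Equiv.ofBijective _ (cst_bijective X A)))⟩
  have h4 := h.subsingleton_N hdn hk (EtCore.gsec X) h3
  have h5 : Subsingleton (((N p).obj (EtCoh.const X A)).obj.obj (op (EtCoh.top X)) : Type (u + 1)) := h4
  exact (Sheaf.H.equiv₀ ((N p).obj (EtCoh.const X A))
    (Groth.Agent.Etrest.ConstBasic.isTerminalTop X)).toEquiv.subsingleton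

end general

variable {K : Type u} [Field K]

theorem connectedSpace_cover {q : ℕ} (hq : 2 ≤ q) :
    ConnectedSpace (Spec (CommRingCat.of (LangSh.ASAlg (BG K) q (T 1)))) := by
  have h1 : (Polynomial.toLaurent : K[X] →+* K[T;T⁻¹]) (ASCov.lin (1 : K) 0) = T 1 := by
    simp [ASCov.lin]
  let j := ASCov.covMap q (ASCov.lin (1 : K) 0) (Polynomial.toLaurent : K[X] →+* K[T;T⁻¹]) (T 1) h1
  have hj : IsOpenImmersion j :=
    MorphismProperty.of_isPullback (ASC.isPullback_asc _ _ _ h1).flip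
      (Groth.Agent.Sga4h.H921.Geo.isOpenImmersion_ι K)
  have i1 := ASCov.isIso_line q (0 : K) (one_ne_zero : (1 : K) ≠ 0)
  have i2 : IsIntegral (Spec (CommRingCat.of K[X])) := inferInstance
  have i3 : Nonempty (Spec (CommRingCat.of (LangSh.ASAlg K[X] q (ASCov.lin (1 : K) 0)))) :=
    ⟨ASCov.line q (0 : K) one_ne_zero (Classical.arbitrary (Spec (CommRingCat.of K[X])))⟩
  have i4 : IsIntegral (Spec (CommRingCat.of (LangSh.ASAlg K[X] q (ASCov.lin (1 : K) 0)))) :=
    isIntegral_of_isOpenImmersion (inv (ASCov.line q (0 : K) one_ne_zero))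
  have i5 := ASCov.surjective_cov q (T 1 : BG K) hq
  have i6 : Nonempty (Spec (CommRingCat.of (LangSh.ASAlg (BG K) q (T 1)))) := by
    obtain ⟨y, -⟩ := (ASCov.cov q (T 1 : BG K)).surjective (Classical.arbitrary (Spec (CommRingCat.of (BG K))))
    exact ⟨y⟩
  have i7 : IsIntegral (Spec (CommRingCat.of (LangSh.ASAlg (BG K) q (T 1)))) :=
    isIntegral_of_isOpenImmersion j
  infer_instance

theorem killed_MM (q : ℕ) {n : ℕ} {F : Ab (Spec (CommRingCat.of K[T;T⁻¹]))} (hF : KilledBy n F) :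
    KilledBy n (MM q F) := killedBy_N (killedBy_obj _ hF)

/-- `T^i F` is killed by `n`. -/
theorem killed_TT (q : ℕ) {n : ℕ} {F : Ab (Spec (CommRingCat.of K[T;T⁻¹]))} (hF : KilledBy n F) (i : ℕ) :
    KilledBy n (TT q i F) := killedBy_obj _ (killed_MM q hF)

theorem cons_MM {q : ℕ} (hq : 2 ≤ q) (hqK : (q : K) = 0) {n : ℕ} (hn : 0 < n)
    {F : Ab (Spec (CommRingCat.of K[T;T⁻¹]))} (hF : KilledBy n F) (hc : EtPBC.IsConstructible F) :
    EtPBC.IsConstructible (MM q F) := by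
  have hqR : ((q : ℕ) : (K[T;T⁻¹])[X]) = 0 := by
    have h := congrArg ((Polynomial.C : K[T;T⁻¹] →+* _).comp (algebraMap K K[T;T⁻¹])) hqK
    rwa [map_natCast, map_zero] at h
  have h := ASC.fe_asc (aox K) hq hqR
  have := h.fin
  have := h.et
  exact Groth.Agent.Sga4h.H182.NCons.cons_N _ hn (killedBy_obj _ hF) (Groth.Agent.S0127.result _ _ hc)

theorem finiteType_str : LocallyOfFiniteType (str K) := by
  rw [HasRingHomProperty.Spec_iff (P := @LocallyOfFiniteType)]
  exact (RingHom.finiteType_algebraMap (A := K) (B := K[X])).2 inferInstance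

theorem finiteType_pra : LocallyOfFiniteType (pra K) := by
  rw [HasRingHomProperty.Spec_iff (P := @LocallyOfFiniteType)]
  have h : (Polynomial.mapRingHom (LaurentPolynomial.C : K →+* K[T;T⁻¹])).FiniteType := by
    have h1 : ((Polynomial.mapRingHom (LaurentPolynomial.C : K →+* K[T;T⁻¹])).comp
        (Polynomial.C : K →+* K[X])).FiniteType := by
      have h2 : (Polynomial.mapRingHom (LaurentPolynomial.C : K →+* K[T;T⁻¹])).comp
          (Polynomial.C : K →+* K[X]) = algebraMap K (K[T;T⁻¹])[X] := by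
        ext a
        · simp
      rw [h2]
      have h3 : Algebra.FiniteType K K[T;T⁻¹] := inferInstance
      exact RingHom.finiteType_algebraMap.2 inferInstance
    exact RingHom.FiniteType.of_comp_finiteType h1
  exact h

/-- `T^i F` is constructible. -/
theorem cons_TT (hFC : FinCons.{u}) {q : ℕ} (hq : 2 ≤ q) (hqK : (q : K) = 0) {n : ℕ} (hn : (n : K) ≠ 0)
    {F : Ab (Spec (CommRingCat.of K[T;T⁻¹]))} (hF : KilledBy n F) (hc : EtPBC.IsConstructible F) (i : ℕ) :
    EtPBC.IsConstructible (TT q i F) := by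
  have hn0 : 0 < n := Nat.pos_of_ne_zero (by rintro rfl; exact hn Nat.cast_zero)
  have h1 := finiteType_pra (K := K)
  have h2 := finiteType_str (K := K)
  exact hFC (str K) (pra K) n hn _ (cons_MM hq hqK hn0 hF hc) (killed_MM q hF) i

instance smooth_str : Smooth (str K) := F0Sch.smooth_C

/-- `H^0(G_m, N_y(const A)) = 0`. -/
theorem subsingleton_H0_base {q : ℕ} (hq : 2 ≤ q) (hqK : (q : K) = 0) {n : ℕ} (hqn : q.Coprime n)
    (A : Type) [AddCommGroup A] [Finite A] (hA : ∀ a : A, n • a = 0) :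
    Subsingleton (EtCoh.H (Spec (CommRingCat.of (BG K))) ((asN q (T 1 : BG K)).obj (EtCoh.const _ A)) 0) := by
  have hqB : ((q : ℕ) : BG K) = 0 := by
    have h := congrArg (algebraMap K (BG K)) hqK
    rwa [map_natCast, map_zero] at h
  have i1 := connectedSpace_cover (K := K) hq
  have i2 : ConnectedSpace (Spec (CommRingCat.of (BG K))) := inferInstance
  exact subsingleton_H0_N (ASC.fe_asc (T 1 : BG K) hq hqB) hqn A hA

section main

variable [IsAlgClosed K] (hS : SmoothBC.{u}) (hFC : FinCons.{u}) {q : ℕ} (hq : 2 ≤ q) (hqK : (q : K) = 0)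
  {n : ℕ} (hn : (n : K) ≠ 0) (hqn : q.Coprime n) (F : Ab (Spec (CommRingCat.of K[T;T⁻¹])))
  (hFn : KilledBy n F)

/-- The sheaf `N_y(px^* F)` on `G_m × G_m`. -/
noncomputable abbrev M' (q : ℕ) (F : Ab (Spec (CommRingCat.of K[T;T⁻¹]))) : Ab (GG K) :=
  (asN q (T 1 : BB K)).obj ((pull (px K)).obj F)

omit [IsAlgClosed K] in
include hq in
theorem nonempty_M' : Nonempty ((pull (jU K)).obj (MM q F) ≅ M' q F) :=
  ⟨(ASC.asNpull (q := q) (jR K) (aox K) (T 1 : BB K) (jR_aox K) hq).app ((pull (prx K)).obj F) ≪≫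
    (asN q (T 1 : BB K)).mapIso (pullPull (jU K) (prx K) (px K) (jU_prx K) F)⟩

omit [IsAlgClosed K] in
include hS hn hq hFn in
/-- The open part `a ≠ 0`. -/
theorem nonempty_aU (i : ℕ) : Nonempty ((pull (ι K)).obj (TT q i F) ≅ (Rpush (aU K) i).obj (M' q F)) := by
  have i1 := Groth.Agent.Sga4h.H921.Geo.isOpenImmersion_ι K
  obtain ⟨e1⟩ := nonempty_M' hq F
  obtain ⟨e2⟩ := hS (pra K) (ι K) (aU K) (jU K) (isPullback_jU K) (MM q F)
    (isTorsionInvertibleOn_of_killedBy (isUnit_of_field hn (str K)) (killed_MM q hFn)) i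
  exact ⟨e2 ≪≫ (Rpush (aU K) i).mapIso e1⟩

omit [IsAlgClosed K] in
include hS hn hq hqK hFn in
/-- The projection to `y`. -/
theorem nonempty_py (i : ℕ) : Nonempty ((Rpush (py K) i).obj (M' q F) ≅
    (asN q (T 1 : BG K)).obj ((pull (ι K ≫ str K)).obj ((Rpush (ι K ≫ str K) i).obj F))) := by
  have i1 := Groth.Agent.Sga4h.H921.Geo.isOpenImmersion_ι K
  have hqB : ((q : ℕ) : BG K) = 0 := by
    have h := congrArg (algebraMap K (BG K)) hqK
    rwa [map_natCast, map_zero] at h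
  obtain ⟨e1⟩ := hS (ι K ≫ str K) (ι K ≫ str K) (py K) (px K) (isPullback_xy K) F
    (isTorsionInvertibleOn_of_killedBy (isUnit_of_field hn (𝟙 _)) hFn) i
  have h1 : mapL (LaurentPolynomial.C : K →+* BG K) (T 1) = T 1 := mapL_T _
  have i2 := ASCov.surjective_cov q (T 1 : BG K) hq
  have i3 := ASCov.isFinite_cov q (T 1 : BG K) hq
  have i4 := ASCov.etale_cov q (T 1 : BG K) hq hqB
  exact ⟨NPush.rpushIso (ASC.isPullback_asc (q := q) (mapL (LaurentPolynomial.C : K →+* BG K)) (T 1 : BG K)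
    (T 1 : BB K) h1).flip ((pull (px K)).obj F) i ≪≫ (asN q (T 1 : BG K)).mapIso e1.symm⟩

include hS hFC hn hq hqK hqn hFn in
/-- `H^1(G_m × G_m, N_y(px^* F)) = 0` if `H^0(G_m, F) = 0`. -/
theorem subsingleton_H1 (hFc : EtPBC.IsConstructible F) (h0 : IsZero ((Rpush (ι K ≫ str K) 0).obj F)) :
    Subsingleton (EtCoh.H (GG K) (M' q F) 1) := by
  obtain ⟨e0⟩ := nonempty_py hS hq hqK hn F hFn 0
  obtain ⟨e1⟩ := nonempty_py hS hq hqK hn F hFn 1
  have hz : IsZero ((Rpush (py K) 0).obj (M' q F)) :=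
    ((asN q (T 1 : BG K)).map_isZero ((pull (ι K ≫ str K)).map_isZero h0)).of_iso e0
  obtain ⟨E⟩ := Groth.Agent.Sga4h.H479.EdgeH.nonempty_edge (py K) (M' q F) 1 (fun i hi => by
    obtain rfl : i = 0 := by omega
    exact hz)
  have i1 := finiteType_str (K := K)
  have i0 := Groth.Agent.Sga4h.H921.Geo.isOpenImmersion_ι K
  have hc : EtPBC.IsConstructible ((Rpush (ι K ≫ str K) 1).obj F) :=
    hFC (𝟙 _) (ι K ≫ str K) n hn F hFc hFn 1
  have hk : KilledBy n ((Rpush (ι K ≫ str K) 1).obj F) := killedBy_obj _ hFn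
  have h2 := Groth.Agent.Sga4B.PointConst.finite_sect_of_isConstructible _ hc
  obtain ⟨A, i2, i3, hA, ⟨e⟩⟩ := Groth.Agent.Sga4B.PointConst.exists_iso_const _ n hk
  have h3 := subsingleton_H0_base hq hqK hqn A hA
  have e2 : (Rpush (py K) 1).obj (M' q F) ≅ (asN q (T 1 : BG K)).obj (EtCoh.const _ A) :=
    e1 ≪≫ (asN q (T 1 : BG K)).mapIso ((pull (ι K ≫ str K)).mapIso e.symm ≪≫
      EtCore.pullConst (ι K ≫ str K) A)
  have h4 := subsingleton_H_of_iso e2.symm 0 h3
  exact E.symm.toEquiv.subsingleton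

include hS hFC hn hq hqK hqn hFn in
/-- **`H^0(G_m, T^1 F) = 0`** if `H^0(G_m, F) = 0` and `T^0 F = 0` on `G_m`. -/
theorem hG_TT (hFc : EtPBC.IsConstructible F) (h0 : IsZero ((Rpush (ι K ≫ str K) 0).obj F))
    (hT0 : IsZero (TT q 0 F)) : IsZero ((Rpush (ι K ≫ str K) 0).obj ((pull (ι K)).obj (TT q 1 F))) := by
  obtain ⟨e0⟩ := nonempty_aU hS hq hn F hFn 0
  obtain ⟨e1⟩ := nonempty_aU hS hq hn F hFn 1
  have hz : IsZero ((Rpush (aU K) 0).obj (M' q F)) := ((pull (ι K)).map_isZero hT0).of_iso e0.symm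
  obtain ⟨E⟩ := Groth.Agent.Sga4h.H479.EdgeH.nonempty_edge (aU K) (M' q F) 1 (fun i hi => by
    obtain rfl : i = 0 := by omega
    exact hz)
  have h1 := subsingleton_H1 hS hFC hq hqK hn hqn F hFn hFc h0
  have h2 : Subsingleton (EtCoh.H _ ((Rpush (aU K) 1).obj (M' q F)) 0) := E.toEquiv.subsingleton
  exact Groth.Agent.Sga4h.H137.HR.isZero_Rpush _ _ 0 (subsingleton_H_of_iso e1.symm 0 h2)

end main

section WA

variable [IsAlgClosed K] (hS : SmoothBC.{u}) (hFC : FinCons.{u}) {q : ℕ} (hq : 2 ≤ q) (hqK : (q : K) = 0)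
  {n : ℕ} (hn : (n : K) ≠ 0) (hqn : q.Coprime n)

include hq hqK hqn in
/-- The field `hG` of `WA n (asN q X (const A))`. -/
theorem hG_base (A : Type) [AddCommGroup A] [Finite A] (hA : ∀ a : A, n • a = 0) :
    IsZero ((Rpush (ι K ≫ str K) 0).obj ((pull (ι K)).obj ((asN q (X : K[X])).obj (EtCoh.const _ A)))) := by
  have e1 := (ASC.asNpull (q := q) (Polynomial.toLaurent : K[X] →+* K[T;T⁻¹]) (X : K[X]) (T 1)
    Polynomial.toLaurent_X hq).app (EtCoh.const _ A)
  have e2 : (pull (ι K)).obj ((asN q (X : K[X])).obj (EtCoh.const _ A)) ≅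
    (asN q (T 1 : BG K)).obj (EtCoh.const _ A) := e1 ≪≫ (asN q (T 1 : BG K)).mapIso (EtCore.pullConst (ι K) A)
  exact Groth.Agent.Sga4h.H137.HR.isZero_Rpush _ _ 0
    (subsingleton_H_of_iso e2.symm 0 (subsingleton_H0_base hq hqK hqn A hA))

include hS hFC hq hqK hn hqn in
/-- The fields `cons`, `killed`, `hG` of `WA n (TT q 1 (ι^* T))`. -/
theorem wa_TT {T : Ab (Spec (CommRingCat.of K[X]))} (hT : WA n T)
    (hT0 : IsZero (TT q 0 ((pull (ι K)).obj T))) :
    EtPBC.IsConstructible (TT q 1 ((pull (ι K)).obj T)) ∧ KilledBy n (TT q 1 ((pull (ι K)).obj T)) ∧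
      IsZero ((Rpush (ι K ≫ str K) 0).obj ((pull (ι K)).obj (TT q 1 ((pull (ι K)).obj T)))) := by
  have h1 : KilledBy n ((pull (ι K)).obj T) := killedBy_obj _ hT.killed
  have h2 : EtPBC.IsConstructible ((pull (ι K)).obj T) := Groth.Agent.S0127.result _ _ hT.cons
  exact ⟨cons_TT hFC hq hqK hn h1 h2 1, killed_TT q h1 1, hG_TT hS hFC hq hqK hn hqn _ h1 h2 hT.hG hT0⟩

end WA

end Groth.Agent.Sga4h.H961.WAG
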