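import Groth.Agent.Sga4h.H921.Geo

/-!
# The squares of `G_m × G_m`

`BB = K[x, x⁻¹][y, y⁻¹]`; `px`, `py : G_m × G_m ⟶ G_m`; `jU : G_m × G_m ⟶ G_m × A¹`, `(x, y) ↦ (x, x y)`,
`aU : G_m × G_m ⟶ G_m`, `(x, y) ↦ x y`.
-/

set_option autoImplicit false
universe u

open CategoryTheory CategoryTheory.Limits AlgebraicGeometry Opposite Polynomial
open scoped LaurentPolynomial

namespace Groth.Agent.Sga4h.H961.GmSq

open Groth.Agent.Sga4h.H929.NDef Groth.Agent.Sga4h.H921
open LaurentPolynomial (T T_add T_zero isUnit_T)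

section general

variable {A B : Type u} [CommRing A] [CommRing B] (φ : A →+* B)

/-- The unit `T`. -/
noncomputable def uT (A : Type u) [CommRing A] : (A[T;T⁻¹])ˣ where
  val := T 1
  inv := T (-1)
  val_inv := by rw [← T_add]; exact T_zero
  inv_val := by rw [← T_add]; exact T_zero

/-- `A[T;T⁻¹] → B[T;T⁻¹]` -/
noncomputable def mapL : A[T;T⁻¹] →+* B[T;T⁻¹] :=
  LaurentPolynomial.eval₂ (LaurentPolynomial.C.comp φ) (uT B)

theorem mapL_C (a : A) : mapL φ (LaurentPolynomial.C a) = LaurentPolynomial.C (φ a) :=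
  LaurentPolynomial.eval₂_C _ _ _

theorem mapL_T : mapL φ (T 1) = T 1 := by
  rw [mapL, LaurentPolynomial.eval₂_T, zpow_one]
  rfl

theorem mapL_toLaurent : (mapL φ).comp (Polynomial.toLaurent : A[X] →+* A[T;T⁻¹]) =
    (Polynomial.toLaurent : B[X] →+* B[T;T⁻¹]).comp (mapRingHom φ) := by
  apply Polynomial.ringHom_ext
  · intro a
    rw [RingHom.comp_apply, RingHom.comp_apply, Polynomial.toLaurent_C, mapL_C, coe_mapRingHom, map_C,
      Polynomial.toLaurent_C]
  · rw [RingHom.comp_apply, RingHom.comp_apply, Polynomial.toLaurent_X, mapL_T, coe_mapRingHom, map_X,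
      Polynomial.toLaurent_X]

/-- `Spec B[T;T⁻¹]` is an open part of `Spec B[X]`, over the one of `Spec A[X]`. -/
theorem isPullback_L : IsPullback
    (Spec.map (CommRingCat.ofHom (Polynomial.toLaurent : B[X] →+* B[T;T⁻¹])))
    (Spec.map (CommRingCat.ofHom (mapL φ)))
    (Spec.map (CommRingCat.ofHom (mapRingHom φ)))
    (Spec.map (CommRingCat.ofHom (Polynomial.toLaurent : A[X] →+* A[T;T⁻¹]))) := by
  have h0 : (Submonoid.powers (X : A[X])).map (mapRingHom φ) = Submonoid.powers (X : B[X]) := by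
    rw [Submonoid.map_powers]
    congr 1
    exact map_X φ
  have h1 : IsLocalization ((Submonoid.powers (X : A[X])).map (mapRingHom φ)) B[T;T⁻¹] := by
    rw [h0]
    exact LaurentPolynomial.isLocalization
  have h2 : IsLocalization (Submonoid.powers (X : A[X])) A[T;T⁻¹] := LaurentPolynomial.isLocalization
  exact isPullback_SpecMap_of_isPushout _ _ _ _
    (CommRingCat.isPushout_of_isLocalization (mapRingHom φ) (mapL φ) (mapL_toLaurent φ)
      (Submonoid.powers (X : A[X])))

end general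

variable (K : Type u) [Field K]

/-- `K[x, x⁻¹]` -/
abbrev BG : Type u := K[T;T⁻¹]

/-- `K[x, x⁻¹][y, y⁻¹]` -/
abbrev BB : Type u := (BG K)[T;T⁻¹]

/-- `G_m × G_m` -/
noncomputable abbrev GG : Scheme.{u} := Spec (CommRingCat.of (BB K))

/-- `(x, y) ↦ x` -/
noncomputable abbrev px : GG K ⟶ Spec (CommRingCat.of (BG K)) :=
  Spec.map (CommRingCat.ofHom (LaurentPolynomial.C : BG K →+* BB K))

/-- `(x, y) ↦ y` -/
noncomputable abbrev py : GG K ⟶ Spec (CommRingCat.of (BG K)) :=
  Spec.map (CommRingCat.ofHom (mapL (LaurentPolynomial.C : K →+* BG K)))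

/-- `(x, y) ↦ (x, y)`, `G_m × G_m ⟶ G_m × A¹` -/
noncomputable abbrev jU₀ : GG K ⟶ Spec (CommRingCat.of (BG K)[X]) :=
  Spec.map (CommRingCat.ofHom (Polynomial.toLaurent : (BG K)[X] →+* BB K))

theorem isPullback_jU₀ : IsPullback (jU₀ K) (py K) (pra K) (ι K) := isPullback_L _

theorem jU₀_prx : jU₀ K ≫ prx K = px K := by
  rw [← Spec.map_comp, ← CommRingCat.ofHom_comp]
  congr 2
  apply RingHom.ext
  intro a
  exact Polynomial.toLaurent_C a

theorem s_eq : ι K ≫ str K = Spec.map (CommRingCat.ofHom (LaurentPolynomial.C : K →+* BG K)) := by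
  rw [← Spec.map_comp, ← CommRingCat.ofHom_comp]
  congr 2
  apply RingHom.ext
  intro a
  exact Polynomial.toLaurent_C a

/-- `G_m × G_m` is the product. -/
theorem isPullback_xy : IsPullback (px K) (py K) (ι K ≫ str K) (ι K ≫ str K) := by
  have h1 := (isPullback_jU₀ K).paste_horiz (Geo.isPullback_poly (LaurentPolynomial.C : K →+* BG K))
  rw [← s_eq, jU₀_prx] at h1
  exact h1

/-- the unit `x y` -/
noncomputable def uxy : (BB K)ˣ :=
  Units.map (LaurentPolynomial.C : BG K →+* BB K).toMonoidHom (uT K) * uT (BG K)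

/-- the unit `x⁻¹ y` -/
noncomputable def uyx : (BB K)ˣ :=
  Units.map (LaurentPolynomial.C : BG K →+* BB K).toMonoidHom (uT K)⁻¹ * uT (BG K)

theorem val_uxy : ((uxy K : (BB K)ˣ) : BB K) = LaurentPolynomial.C (T 1) * T 1 := rfl

theorem val_uyx : ((uyx K : (BB K)ˣ) : BB K) = LaurentPolynomial.C (T (-1)) * T 1 := rfl

/-- `y ↦ x y` -/
noncomputable def thR : BB K →+* BB K := LaurentPolynomial.eval₂ LaurentPolynomial.C (uxy K)

/-- `y ↦ x⁻¹ y` -/
noncomputable def thR' : BB K →+* BB K := LaurentPolynomial.eval₂ LaurentPolynomial.C (uyx K)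

theorem thR_C (a : BG K) : thR K (LaurentPolynomial.C a) = LaurentPolynomial.C a :=
  LaurentPolynomial.eval₂_C _ _ _

theorem thR'_C (a : BG K) : thR' K (LaurentPolynomial.C a) = LaurentPolynomial.C a :=
  LaurentPolynomial.eval₂_C _ _ _

theorem thR_T : thR K (T 1) = LaurentPolynomial.C (T 1) * T 1 := by
  rw [thR, LaurentPolynomial.eval₂_T, zpow_one, val_uxy]

theorem thR'_T : thR' K (T 1) = LaurentPolynomial.C (T (-1)) * T 1 := by
  rw [thR', LaurentPolynomial.eval₂_T, zpow_one, val_uyx]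

theorem ringHom_ext_L {A B : Type u} [CommRing A] [CommRing B] {f g : A[T;T⁻¹] →+* B}
    (h1 : ∀ a, f (LaurentPolynomial.C a) = g (LaurentPolynomial.C a)) (h2 : f (T 1) = g (T 1)) : f = g := by
  have h0 : IsLocalization (Submonoid.powers (X : A[X])) A[T;T⁻¹] := LaurentPolynomial.isLocalization
  apply IsLocalization.ringHom_ext (Submonoid.powers (X : A[X]))
  apply Polynomial.ringHom_ext
  · intro a
    change f (toLaurent (C a)) = g (toLaurent (C a))
    rw [toLaurent_C]
    exact h1 a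
  · change f (toLaurent X) = g (toLaurent X)
    rw [toLaurent_X]
    exact h2

theorem T_neg_mul : (T (-1) : BG K) * T 1 = 1 := by rw [← T_add]; exact T_zero

theorem T_mul_neg : (T 1 : BG K) * T (-1) = 1 := by rw [← T_add]; exact T_zero

theorem thR_thR' : (thR K).comp (thR' K) = RingHom.id _ := by
  apply ringHom_ext_L
  · intro a
    rw [RingHom.comp_apply, thR'_C, thR_C]
    rfl
  · rw [RingHom.comp_apply, thR'_T, map_mul, thR_C, thR_T, ← mul_assoc, ← map_mul, T_neg_mul, map_one,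
      one_mul]
    rfl

theorem thR'_thR : (thR' K).comp (thR K) = RingHom.id _ := by
  apply ringHom_ext_L
  · intro a
    rw [RingHom.comp_apply, thR_C, thR'_C]
    rfl
  · rw [RingHom.comp_apply, thR_T, map_mul, thR'_C, thR'_T, ← mul_assoc, ← map_mul, T_mul_neg, map_one,
      one_mul]
    rfl

instance isIso_th : IsIso (Spec.map (CommRingCat.ofHom (thR K))) := by
  refine ⟨Spec.map (CommRingCat.ofHom (thR' K)), ?_, ?_⟩
  · rw [← Spec.map_comp, ← CommRingCat.ofHom_comp, thR_thR']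
    exact Spec.map_id _
  · rw [← Spec.map_comp, ← CommRingCat.ofHom_comp, thR'_thR]
    exact Spec.map_id _

/-- `X ↦ x y` -/
noncomputable def jR : (BG K)[X] →+* BB K := (thR K).comp Polynomial.toLaurent

theorem jR_C (b : BG K) : jR K (C b) = LaurentPolynomial.C b := by
  rw [jR, RingHom.comp_apply, toLaurent_C, thR_C]

theorem jR_X : jR K X = LaurentPolynomial.C (T 1) * T 1 := by
  rw [jR, RingHom.comp_apply, toLaurent_X, thR_T]

theorem jR_aox : jR K (aox K) = T 1 := by
  rw [map_mul, jR_C, jR_X, ← mul_assoc, ← map_mul, T_neg_mul, map_one, one_mul]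

/-- `(x, y) ↦ (x, x y)` -/
noncomputable abbrev jU : GG K ⟶ Spec (CommRingCat.of (BG K)[X]) :=
  Spec.map (CommRingCat.ofHom (jR K))

/-- `(x, y) ↦ x y` -/
noncomputable abbrev aU : GG K ⟶ Spec (CommRingCat.of (BG K)) :=
  Spec.map (CommRingCat.ofHom (thR K)) ≫ py K

theorem jU_eq : jU K = Spec.map (CommRingCat.ofHom (thR K)) ≫ jU₀ K := by
  rw [← Spec.map_comp, ← CommRingCat.ofHom_comp]
  rfl

theorem jU_prx : jU K ≫ prx K = px K := by
  rw [← Spec.map_comp, ← CommRingCat.ofHom_comp]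
  congr 2
  apply RingHom.ext
  intro a
  exact jR_C K a

/-- the open part `a ≠ 0` of `G_m × A¹` -/
theorem isPullback_jU : IsPullback (jU K) (aU K) (pra K) (ι K) := by
  rw [jU_eq]
  refine (isPullback_jU₀ K).of_iso (asIso (Spec.map (CommRingCat.ofHom (thR K)))).symm (Iso.refl _) (Iso.refl _)
    (Iso.refl _) ?_ ?_ ?_ ?_
  all_goals simp

end Groth.Agent.Sga4h.H961.GmSq
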