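import Groth.Agent.Sga4h.H961.WAG
import Groth.Agent.Sga4h.H299.Row
import Groth.Agent.Sga4h.PushDer

/-!
# `H^i(A¹, T^1) = 0`

One row degeneration for `G_m × A¹ ⟶ A¹ ⟶ Spec K`, and `R prx_* M = 0`.
-/

set_option autoImplicit false
universe u

open CategoryTheory CategoryTheory.Limits AlgebraicGeometry Opposite Polynomial
open scoped LaurentPolynomial

namespace Groth.Agent.Sga4h.H961.HH

open EtCoh Groth.Agent.Sga4h.H929 NDef NSplit StalkLib CommLib Hyp
open Groth.Agent.Sga4h.H961.GmSq Groth.Agent.Sga4h.H582 Groth.Agent.Sga4h.H961.WAG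
open Groth.Agent.Sga4h.PushDer Groth.Agent.Sga4h.H299

section row

variable {X Y Z : Scheme.{u}}

/-- One row. -/
theorem one_row (f : X ⟶ Y) (g : Y ⟶ Z) (a : ℕ) (F : Ab X)
    (hq : ∀ q, q ≠ a → IsZero ((Rpush f q).obj F)) (n : ℕ) :
    Nonempty ((Rpush (f ≫ g) (n + a)).obj F ≅ (Rpush g n).obj ((Rpush f a).obj F)) := by
  obtain ⟨e⟩ := Row.one_row (push f) (push g) (push_injective f) a F hq n
  exact ⟨((LerayAcyc.rightDerivedCongr (EtCoh.pushComp g f) (n + a)).app F).symm ≪≫ e⟩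

/-- All rows vanish. -/
theorem isZero_all (f : X ⟶ Y) (g : Y ⟶ Z) (F : Ab X) (hq : ∀ q, IsZero ((Rpush f q).obj F)) (m : ℕ) :
    IsZero ((Rpush (f ≫ g) m).obj F) :=
  (Row.isZero_all (push f) (push g) (push_injective f) F hq m).of_iso
    ((LerayAcyc.rightDerivedCongr (EtCoh.pushComp g f) m).app F).symm

end row

variable {K : Type u} [Field K]

theorem pra_str : pra K ≫ str K = prx K ≫ ι K ≫ str K := by
  rw [s_eq]
  exact (Groth.Agent.Sga4h.H921.Geo.isPullback_poly (LaurentPolynomial.C : K →+* K[T;T⁻¹])).w.symm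

/-- **`H^i(A¹, T^1 F) = 0`** for all `i`. -/
theorem hH_TT (q : ℕ) (F : Ab (Spec (CommRingCat.of K[T;T⁻¹])))
    (hP : ∀ i, IsZero ((Rpush (prx K) i).obj (MM q F))) (hV : ∀ i, i ≠ 1 → IsZero (TT q i F)) (i : ℕ) :
    IsZero ((Rpush (str K) i).obj (TT q 1 F)) := by
  obtain ⟨e⟩ := one_row (pra K) (str K) 1 (MM q F) hV i
  refine IsZero.of_iso ?_ e.symm
  rw [pra_str]
  exact isZero_all (prx K) (ι K ≫ str K) (MM q F) hP (i + 1)

end Groth.Agent.Sga4h.H961.HH
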