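import Groth.Agent.Sga4h.H961.Summand
import Groth.Agent.Sga4h.H921.Geo
import Groth.Agent.EtpbcA.PullFLC

/-!
# The two forms of the iterated sheaves, and the vanishing of the sections of `F_θ(x_1 + ⋯ + x_n)`
-/

set_option autoImplicit false
universe u

open CategoryTheory CategoryTheory.Limits AlgebraicGeometry Opposite Polynomial

namespace Groth.Agent.Sga4h.H961.NNRR

open Groth.Agent.Sga4h.H918 Gen Tw Ask Lang
open Groth.Agent.Sga4h.H929 NDef NSplit ASC
open Groth.Agent.Sga4h.H961 SumStep FCalc LineSect JacZero Summand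
open Groth.Agent.Etrest.ModAb
open Groth.Agent.Sga4h.H921

section NN

variable (K : Type u) [Field K]

/-- `N_{x_0} N_{x_1} … N_{x_(n-1)} Λ` on `A^n` (verbatim `H921.Rec.NN`). -/
noncomputable def NN (q : ℕ) (Λ : Type) [AddCommGroup Λ] :
    (n : ℕ) → EtCoh.Ab (Spec (CommRingCat.of (MvPolynomial (Fin n) K)))
  | 0 => EtCoh.const _ Λ
  | (n + 1) => (EtCoh.pull (Geo.phi K n)).obj ((asN q (X : (MvPolynomial (Fin n) K)[X])).obj
      ((EtCoh.pull (Spec.map (CommRingCat.ofHom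
        (Polynomial.C : MvPolynomial (Fin n) K →+* (MvPolynomial (Fin n) K)[X])))).obj (NN q Λ n)))

/-- The reversal of the coordinates. -/
noncomputable abbrev revR (n : ℕ) : MvPolynomial (Fin n) K →+* MvPolynomial (Fin n) K :=
  (MvPolynomial.rename (Fin.rev : Fin n → Fin n) :
    MvPolynomial (Fin n) K →ₐ[K] MvPolynomial (Fin n) K).toRingHom

theorem revR_X (n : ℕ) (i : Fin n) : revR K n (MvPolynomial.X i) = MvPolynomial.X i.rev :=
  MvPolynomial.rename_X _ _

theorem revR_C (n : ℕ) (a : K) : revR K n (MvPolynomial.C a) = MvPolynomial.C a :=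
  MvPolynomial.rename_C _ _

theorem revR_revR (n : ℕ) : (revR K n).comp (revR K n) = RingHom.id _ := by
  apply MvPolynomial.ringHom_ext
  · intro a
    rw [RingHom.comp_apply, revR_C, revR_C]
    rfl
  · intro i
    rw [RingHom.comp_apply, revR_X, revR_X, Fin.rev_rev]
    rfl

/-- The reversal of the coordinates. -/
noncomputable abbrev rev (n : ℕ) : Spec (CommRingCat.of (MvPolynomial (Fin n) K)) ⟶
    Spec (CommRingCat.of (MvPolynomial (Fin n) K)) :=
  Spec.map (CommRingCat.ofHom (revR K n))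

theorem rev_rev (n : ℕ) : rev K n ≫ rev K n = 𝟙 _ := by
  rw [← Spec.map_comp, ← CommRingCat.ofHom_comp, revR_revR, CommRingCat.ofHom_id, Spec.map_id]

theorem rev_phi_X (n : ℕ) : (revR K (n + 1)).comp (Geo.phiR K n) X = MvPolynomial.X (Fin.last n) := by
  rw [RingHom.comp_apply, Geo.phiR_X, revR_X, Fin.rev_zero]

theorem rev_phi_C (n : ℕ) : ((revR K (n + 1)).comp (Geo.phiR K n)).comp
      (Polynomial.C : MvPolynomial (Fin n) K →+* (MvPolynomial (Fin n) K)[X]) =
    (MvPolynomial.rename (Fin.castSucc : Fin n → Fin (n + 1)) :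
      MvPolynomial (Fin n) K →ₐ[K] MvPolynomial (Fin (n + 1)) K).toRingHom.comp (revR K n) := by
  apply MvPolynomial.ringHom_ext
  · intro a
    rw [RingHom.comp_apply, RingHom.comp_apply, RingHom.comp_apply, Geo.phiR_C_C, revR_C, revR_C]
    exact (MvPolynomial.rename_C _ _).symm
  · intro i
    rw [RingHom.comp_apply, RingHom.comp_apply, RingHom.comp_apply, Geo.phiR_C_X, revR_X, revR_X,
      Fin.rev_succ]
    exact (MvPolynomial.rename_X _ _).symm

variable {K}

theorem nonempty_pull {A B C : Scheme.{u}} (f : A ⟶ B) (g : B ⟶ C) (h : A ⟶ C) (w : f ≫ g = h) (F : EtCoh.Ab C) :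
    Nonempty ((EtCoh.pull f).obj ((EtCoh.pull g).obj F) ≅ (EtCoh.pull h).obj F) := by
  subst w
  exact ⟨(EtCore.pullComp f g).symm.app F⟩

theorem nonempty_pull_id {A : Scheme.{u}} (F : EtCoh.Ab A) : Nonempty ((EtCoh.pull (𝟙 A)).obj F ≅ F) := by
  exact ⟨(Groth.Agent.EtpbcA.PullFLC.pullId A).app F⟩

/-- The two forms of the iterated sheaves. -/
theorem nonempty_RR {q : ℕ} (hq : 2 ≤ q) (Λ : Type) [AddCommGroup Λ] (n : ℕ) :
    Nonempty ((EtCoh.pull (rev K n)).obj (NN K q Λ n) ≅ RR.RR q K Λ n) := by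
  induction n with
  | zero => exact ⟨EtCore.pullConst (rev K 0) Λ⟩
  | succ n ih =>
    obtain ⟨e⟩ := ih
    obtain ⟨e1⟩ := nonempty_pull (rev K (n + 1)) (Geo.phi K n)
      (Spec.map (CommRingCat.ofHom ((revR K (n + 1)).comp (Geo.phiR K n))))
      (by rw [← Spec.map_comp, ← CommRingCat.ofHom_comp])
      ((asN q (X : (MvPolynomial (Fin n) K)[X])).obj
      ((EtCoh.pull (Spec.map (CommRingCat.ofHom
        (Polynomial.C : MvPolynomial (Fin n) K →+* (MvPolynomial (Fin n) K)[X])))).obj (NN K q Λ n)))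
    let e2 := (asNpull ((revR K (n + 1)).comp (Geo.phiR K n)) (X : (MvPolynomial (Fin n) K)[X])
      (MvPolynomial.X (Fin.last n)) (rev_phi_X K n) hq).app
      ((EtCoh.pull (Spec.map (CommRingCat.ofHom
        (Polynomial.C : MvPolynomial (Fin n) K →+* (MvPolynomial (Fin n) K)[X])))).obj (NN K q Λ n))
    obtain ⟨e3⟩ := nonempty_pull
      (Spec.map (CommRingCat.ofHom ((revR K (n + 1)).comp (Geo.phiR K n))))
      (Spec.map (CommRingCat.ofHom
        (Polynomial.C : MvPolynomial (Fin n) K →+* (MvPolynomial (Fin n) K)[X])))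
      (RR.prn K n ≫ rev K n)
      (by rw [← Spec.map_comp, ← CommRingCat.ofHom_comp, rev_phi_C, CommRingCat.ofHom_comp, Spec.map_comp])
      (NN K q Λ n)
    obtain ⟨e4⟩ := nonempty_pull (RR.prn K n) (rev K n) _ rfl (NN K q Λ n)
    exact ⟨e1 ≪≫ e2 ≪≫ (asN q (MvPolynomial.X (Fin.last n) : MvPolynomial (Fin (n + 1)) K)).mapIso
      (e3 ≪≫ e4.symm ≪≫ (EtCoh.pull (RR.prn K n)).mapIso e)⟩

end NN

section Summ

variable {k : Type*} [Field k] [Fintype k] {K : Type u} [Field K] [IsAlgClosed K] (ρ : k →+* K)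
  {Λ : Type} [Field Λ] {θ : GG k →* (ULift.{u + 1} Λ)ˣ}

/-- **`F_θ(x_0 + ⋯ + x_(n-1))` is a direct summand of `N_{x_0} ⋯ N_{x_(n-1)} (Λ)`.** -/
theorem summand_NN (hθ : ∀ d : kˣ, θ (1, d) = 1)
    (hθ' : ∃ c : Multiplicative k, ∀ r : ULift.{u + 1} Λ, r * (θ (c, 1) : ULift.{u + 1} Λ) = r → r = 0)
    {N : ℕ} (hN : (N : Λ) = 0) (hqN : (Fintype.card k).Coprime N) (n : ℕ) :
    Summand ((ab (ULift.{u + 1} Λ) _).obj (FS ((MvPolynomial.C : K →+* MvPolynomial (Fin n) K).comp ρ) θ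
        (∑ i : Fin n, MvPolynomial.X i))) (NN K (Fintype.card k) Λ n) := by
  have hq : 2 ≤ Fintype.card k := Fintype.one_lt_card
  obtain ⟨e⟩ := nonempty_RR (K := K) hq Λ n
  obtain ⟨e1⟩ := nonempty_pull (rev K n) (rev K n) (𝟙 _) (rev_rev K n) (NN K (Fintype.card k) Λ n)
  obtain ⟨e2⟩ := nonempty_pull_id (NN K (Fintype.card k) Λ n)
  have h1 := (summand_FS ρ hθ hθ' hN hqN n).map (EtCoh.pull (rev K n))
  obtain ⟨e3⟩ := pull_FS (Λ := Λ) (revR K n) ((MvPolynomial.C : K →+* MvPolynomial (Fin n) K).comp ρ)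
    ((MvPolynomial.C : K →+* MvPolynomial (Fin n) K).comp ρ) (RingHom.ext fun c => revR_C K n (ρ c)) θ
    (∑ i : Fin n, MvPolynomial.X i) (∑ i : Fin n, MvPolynomial.X i) (by
      rw [map_sum]
      have h : ∀ i : Fin n, revR K n (MvPolynomial.X i) = MvPolynomial.X i.rev := revR_X K n
      simp only [h]
      exact Equiv.sum_comp (Fin.revPerm : Equiv.Perm (Fin n)) (fun i => (MvPolynomial.X i : MvPolynomial (Fin n) K)))
  refine (Summand.of_iso ?_).trans (h1.trans (Summand.of_iso ?_))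
  · exact (ab _ _).mapIso e3.symm ≪≫ (pullIso (ULift.{u + 1} Λ) (rev K n)).app _
  · exact (EtCoh.pull (rev K n)).mapIso e.symm ≪≫ e1 ≪≫ e2

/-- The sections are given by the morphisms from `ℤ`. -/
theorem sect_eq_zero_of_hom {X : Scheme.{u}} (A : EtCoh.Ab X) (h : ∀ f : EtCoh.const X ℤ ⟶ A, f = 0)
    (s : EtCoh.sect A (EtCoh.top X)) : s = 0 := by
  let he := (EtCore.constAdj X).homEquiv (AddCommGrpCat.of (ULift.{u + 1} ℤ)) A
  let s' : ((EtCore.gsec X).obj A : Type (u + 1)) := s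
  let g : AddCommGrpCat.of (ULift.{u + 1} ℤ) ⟶ (EtCore.gsec X).obj A :=
    AddCommGrpCat.ofHom ((zmultiplesHom _ s').comp (AddEquiv.ulift.toAddMonoidHom))
  have h1 : he.symm g = he.symm 0 := (h _).trans (h _).symm
  have h2 : g = 0 := he.symm.injective h1
  have h3 : (1 : ℤ) • s' = 0 := congrArg (fun t : AddCommGrpCat.of (ULift.{u + 1} ℤ) ⟶ (EtCore.gsec X).obj A =>
    t.hom (ULift.up 1)) h2
  rw [one_smul] at h3
  exact h3

/-- There are no morphisms from `ℤ` to `F_θ(x_0 + ⋯ + x_n)`. -/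
theorem hom_const_FS
    (hθ' : ∃ c : Multiplicative k, ∀ r : ULift.{u + 1} Λ, r * (θ (c, 1) : ULift.{u + 1} Λ) = r → r = 0) (n : ℕ)
    (A : Type) [AddCommGroup A]
    (h : EtCoh.const _ A ⟶ (ab (ULift.{u + 1} Λ) _).obj
      (FS ((MvPolynomial.C : K →+* MvPolynomial (Fin (n + 1)) K).comp ρ) θ (∑ i : Fin (n + 1), MvPolynomial.X i))) :
    h = 0 := by
  refine eq_zero_of_points h fun a => ⟨_,
    Spec.map (CommRingCat.ofHom (lineMap (fun i : Fin n => a (Fin.castSucc i))).toRingHom),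
    Spec.map (CommRingCat.ofHom (evalRingHom (a (Fin.last n)))), ?_, ?_⟩
  · rw [← Spec.map_comp, ← CommRingCat.ofHom_comp]
    congr 2
    apply MvPolynomial.ringHom_ext
    · intro x
      rw [RingHom.comp_apply]
      have h1 : (lineMap (fun i : Fin n => a (Fin.castSucc i))).toRingHom (MvPolynomial.C x) = C x :=
        (lineMap (fun i : Fin n => a (Fin.castSucc i))).commutes x
      rw [h1]
      exact (eval_C).trans ((MvPolynomial.aeval a).commutes x).symm
    · intro i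
      rw [RingHom.comp_apply]
      refine Fin.lastCases ?_ (fun i => ?_) i
      · have h1 := lineMap_last (fun i : Fin n => a (Fin.castSucc i))
        refine (congrArg _ h1).trans ?_
        exact (eval_X).trans (MvPolynomial.aeval_X a _).symm
      · have h1 := lineMap_castSucc (fun i : Fin n => a (Fin.castSucc i)) i
        refine (congrArg _ h1).trans ?_
        exact (eval_C).trans (MvPolynomial.aeval_X a _).symm
  · let φ := (lineMap (fun i : Fin n => a (Fin.castSucc i))).toRingHom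
    let c : K := ∑ i : Fin n, a (Fin.castSucc i)
    obtain ⟨w, hw⟩ := Summand.exists_root (k := k) c
    obtain ⟨e1⟩ := pull_FS (Λ := Λ) φ ((MvPolynomial.C : K →+* MvPolynomial (Fin (n + 1)) K).comp ρ)
      ((C : K →+* K[X]).comp ρ) (RingHom.ext fun c =>
        (lineMap (fun i : Fin n => a (Fin.castSucc i))).commutes (ρ c)) θ
      (∑ i : Fin (n + 1), MvPolynomial.X i) (C c + X) (by
        change lineMap _ _ = _
        rw [map_sum, Fin.sum_univ_castSucc, lineMap_last, map_sum]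
        congr 1
        exact Finset.sum_congr rfl fun i _ => lineMap_castSucc _ i)
    obtain ⟨e2⟩ := shift_FS (Λ := Λ) ((C : K →+* K[X]).comp ρ) θ X (C c + X) (C w)
      (by rw [← map_pow, ← map_sub, hw, add_comm])
    have h0 : ∀ s : EtCoh.sect ((ab (ULift.{u + 1} Λ) _).obj (FS ((C : K →+* K[X]).comp ρ) θ X))
        (EtCoh.top (Spec (CommRingCat.of K[X]))), s = 0 := fun s => sect_eq_zero (Λ := ULift.{u + 1} Λ) ρ θ hθ' s
    let e3 : (EtCoh.pull (Spec.map (CommRingCat.ofHom φ))).obj ((ab (ULift.{u + 1} Λ) _).obj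
        (FS ((MvPolynomial.C : K →+* MvPolynomial (Fin (n + 1)) K).comp ρ) θ (∑ i : Fin (n + 1), MvPolynomial.X i))) ≅
        (ab (ULift.{u + 1} Λ) _).obj (FS ((C : K →+* K[X]).comp ρ) θ X) :=
      ((pullIso (ULift.{u + 1} Λ) (Spec.map (CommRingCat.ofHom φ))).app _).symm ≪≫ (ab _ _).mapIso (e1 ≪≫ e2)
    have h1 : (EtCore.pullConst (Spec.map (CommRingCat.ofHom φ)) A).inv ≫
        (EtCoh.pull (Spec.map (CommRingCat.ofHom φ))).map h ≫ e3.hom = 0 :=
      H917.ConstOn.hom_const_eq_zero A _ h0 _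
    rw [← cancel_epi (EtCore.pullConst (Spec.map (CommRingCat.ofHom φ)) A).inv, ← cancel_mono e3.hom,
      Category.assoc, h1, Limits.comp_zero, Limits.zero_comp]

/-- **`F_θ(x_0 + ⋯ + x_n)` has no sections.** -/
theorem sect_FS
    (hθ' : ∃ c : Multiplicative k, ∀ r : ULift.{u + 1} Λ, r * (θ (c, 1) : ULift.{u + 1} Λ) = r → r = 0) {n : ℕ}
    (hn : 1 ≤ n)
    (s : EtCoh.sect ((ab (ULift.{u + 1} Λ) _).obj
      (FS ((MvPolynomial.C : K →+* MvPolynomial (Fin n) K).comp ρ) θ (∑ i : Fin n, MvPolynomial.X i)))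
      (EtCoh.top _)) : s = 0 := by
  obtain ⟨m, rfl⟩ : ∃ m, n = m + 1 := ⟨n - 1, by omega⟩
  exact sect_eq_zero_of_hom _ (fun f => hom_const_FS ρ hθ' m ℤ f) s

end Summ

end Groth.Agent.Sga4h.H961.NNRR
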