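import Groth.Agent.Sga4h.H918.Lang

/-!
# Rank one sheaves with a nontrivial character have no global sections

* `exists_smul`: on a connected étale scheme every section is a multiple of a free generator;
* `eq_zero_of_act`: if `g^* s = c s` for a free generator `s` on a connected étale covering `T`, and `c - 1` is
  cancellable then the sheaf has no nonzero global section.
-/

set_option autoImplicit false

universe u

open CategoryTheory CategoryTheory.Limits AlgebraicGeometry Opposite

namespace Groth.Agent.Sga4h.H961.NoSect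

open Groth.Agent.Etbase Groth.Agent.Etcore Groth.Agent.EtpbcA Groth.Agent.Etcore.LVan
open Groth.Agent.Sga4h.H918 Gen

variable {Λ : Type (u + 1)} [CommRing Λ] {X : Scheme.{u}}

/-- On a connected étale scheme every section is a multiple of a free generator. -/
theorem exists_smul {L : EtModW.Mod Λ X} {T : X.Etale} [ConnectedSpace T.left] {s : EtModW.sect Λ L T}
    (hs : IsGen L s) (t : EtModW.sect Λ L T) : ∃ r : Λ, t = r • s := by
  have hex : ∀ y : T.left, ∃ r : Λ, Van L (t - r • s) y := by
    intro y
    obtain ⟨r, hr⟩ := (hs y).2 T (𝟙 T) y rfl t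
    refine ⟨r, ?_⟩
    rw [LVan.res_id] at hr
    exact hr
  have huniq : ∀ (y : T.left) (r r' : Λ), Van L (t - r • s) y → Van L (t - r' • s) y → r = r' := by
    intro y r r' h h'
    have h1 := h'.sub h
    have h2 : (t - r' • s) - (t - r • s) = sMap L s (r - r') := by
      rw [LinearMap.toSpanSingleton_apply, sub_smul]
      abel
    rw [h2] at h1
    exact sub_eq_zero.1 ((hs y).1 _ h1)
  let y₀ : T.left := Classical.arbitrary _
  obtain ⟨r, hr⟩ := hex y₀
  refine ⟨r, ?_⟩
  have h1 : IsOpen {y : T.left | Van L (t - r • s) y} := isOpen_van _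
  have h2 : IsOpen {y : T.left | Van L (t - r • s) y}ᶜ := by
    have h3 : {y : T.left | Van L (t - r • s) y}ᶜ = ⋃ (r' : Λ) (_ : r' ≠ r), {y : T.left | Van L (t - r' • s) y} := by
      ext y
      simp only [Set.mem_compl_iff, Set.mem_ofPred_eq, Set.mem_iUnion]
      constructor
      · intro h
        obtain ⟨r', hr'⟩ := hex y
        exact ⟨r', fun e => h (e ▸ hr'), hr'⟩
      · rintro ⟨r', hne, hr'⟩ h
        exact hne (huniq y _ _ hr' h)
    rw [h3]
    exact isOpen_iUnion fun r' => isOpen_iUnion fun _ => isOpen_van _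
  have h4 : IsClopen {y : T.left | Van L (t - r • s) y} := ⟨⟨h2⟩, h1⟩
  have h5 := h4.eq_univ ⟨y₀, hr⟩
  rw [← sub_eq_zero]
  exact eq_zero_of_van _ fun y => (Set.eq_univ_iff_forall.1 h5) y

/-- No sections. -/
theorem eq_zero_of_act {L : EtModW.Mod Λ X} {T : X.Etale} [ConnectedSpace T.left]
    (hT : ∀ x : X, ∃ y : T.left, T.hom y = x) {s : EtModW.sect Λ L T} (hs : IsGen L s) (g : T ⟶ T) (c : Λ)
    (hc : ∀ r : Λ, r * c = r → r = 0) (hg : LVan.res L g s = c • s) (t : EtModW.sect Λ L (EtCoh.top X)) :
    t = 0 := by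
  let i : T ⟶ EtCoh.top X := Groth.Agent.Sga5.H835.InvRes.toTop T
  obtain ⟨r, hr⟩ := exists_smul hs (LVan.res L i t)
  have h1 : LVan.res L g (LVan.res L i t) = LVan.res L i t := by
    rw [← LVan.res_comp]
    congr 3
    exact MorphismProperty.Over.Hom.ext (MorphismProperty.Over.w g)
  rw [hr, map_smul, hg, smul_smul] at h1
  have h2 : r * c = r := by
    have h3 : sMap L s (r * c - r) = 0 := by
      rw [LinearMap.toSpanSingleton_apply, sub_smul, h1, sub_self]
    exact sub_eq_zero.1 ((hs (Classical.arbitrary _)).1 _ (van_zero_of_eq h3 _))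
  have h4 := hc r h2
  rw [h4, zero_smul] at hr
  refine sect_ext' L fun x => ?_
  obtain ⟨y, hy⟩ := hT x
  refine ⟨T, i, y, ?_, by rw [hr, map_zero]⟩
  have w : i.left ≫ (EtCoh.top X).hom = T.hom := MorphismProperty.Over.w i
  have w2 : i.left = T.hom := (Category.comp_id _).symm.trans w
  exact (congrArg (fun q : T.left ⟶ X => q y) w2).trans hy

end Groth.Agent.Sga4h.H961.NoSect
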